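import Mathlib.NumberTheory.Zsqrtd.GaussianInt
import Mathlib.RingTheory.PrincipalIdealDomain
import Mathlib.Tactic

/-! # `x ^ 2 + 1 = p ^ k` has no solution for odd `p > 1` and odd `k > 1` -/

set_option autoImplicit false

namespace CfsgLib.ThreeBlock9

open GaussianInt

/-- Units of the Gaussian integers have order dividing four. -/
theorem gaussian_unit_pow_four (u : GaussianIntˣ) : u ^ 4 = 1 := by
  have h := (Zsqrtd.norm_eq_one_iff (x := (u : GaussianInt))).2 u.isUnit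
  have h2 : (u : GaussianInt).re * (u : GaussianInt).re +
      (u : GaussianInt).im * (u : GaussianInt).im = 1 := by
    have h0 : (Zsqrtd.norm (u : GaussianInt)) = 1 := by
      have := GaussianInt.norm_nonneg (u : GaussianInt)
      omega
    simpa [Zsqrtd.norm] using h0
  have h3 : (u : GaussianInt).re ^ 2 ≤ 1 := by
    nlinarith [mul_self_nonneg (u : GaussianInt).im]
  have h4 : (u : GaussianInt).im ^ 2 ≤ 1 := by
    nlinarith [mul_self_nonneg (u : GaussianInt).re]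
  have hr : -1 ≤ (u : GaussianInt).re ∧ (u : GaussianInt).re ≤ 1 :=
    abs_le.1 ((sq_le_one_iff_abs_le_one _).1 h3)
  have hi : -1 ≤ (u : GaussianInt).im ∧ (u : GaussianInt).im ≤ 1 :=
    abs_le.1 ((sq_le_one_iff_abs_le_one _).1 h4)
  apply Units.ext
  rcases hu : (u : GaussianInt) with ⟨a, b⟩
  rw [hu] at h2 hr hi
  obtain ⟨hr1, hr2⟩ := hr
  obtain ⟨hi1, hi2⟩ := hi
  simp only at h2 hr1 hr2 hi1 hi2
  rw [Units.val_pow_eq_pow_val, hu, Units.val_one]
  interval_cases a <;> interval_cases b <;> first | omega | (ext <;> simp [pow_succ])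

theorem im_dvd_pow (z : GaussianInt) (k : ℕ) : z.im ∣ (z ^ k).im := by
  induction k with
  | zero => simp
  | succ k ih =>
    rw [pow_succ, Zsqrtd.im_mul]
    exact dvd_add (dvd_mul_left _ _) (ih.mul_right _)

/-- Exact powers of two in the powers of `1 + u i`. -/
theorem two_pow_sq {e : ℕ} (he : 0 < e) {w : ℤ} (hw : Odd w) (f : ℕ) :
    ∃ A B : ℤ, Odd A ∧ ((⟨1, 2 ^ e * w⟩ : GaussianInt) ^ 2 ^ (f + 1)) =
      ⟨1 + 2 ^ (f + 2 * e) * A, 2 ^ (f + 1 + e) * B⟩ := by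
  induction f with
  | zero =>
    refine ⟨-(w * w), w, (hw.mul hw).neg, ?_⟩
    rw [zero_add, zero_add, pow_one, sq]
    ext <;> simp [Zsqrtd.re_mul, Zsqrtd.im_mul] <;> ring
  | succ f ih =>
    obtain ⟨A, B, hA, hz⟩ := ih
    refine ⟨A + (2 ^ (f + 2 * e - 1) * A * A - 2 ^ (f + 1) * B * B), B * (1 + 2 ^ (f + 2 * e) * A),
      hA.add_even ?_, ?_⟩
    · refine Even.sub ?_ ?_
      · exact ((Even.pow_of_ne_zero even_two (by omega)).mul_right _).mul_right _
      · exact ((Even.pow_of_ne_zero even_two (by omega)).mul_right _).mul_right _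
    · rw [pow_succ 2 (f + 1), pow_mul, hz, sq]
      obtain ⟨d, hd⟩ : ∃ d, f + 2 * e = d + 1 := ⟨f + 2 * e - 1, by omega⟩
      have h1 : f + 2 * e - 1 = d := by omega
      have h3 : f + 1 + 2 * e = d + 2 := by omega
      ext
      · simp only [Zsqrtd.re_mul]
        rw [h1, hd, h3]
        have h4 : ((2 : ℤ) ^ (f + 1 + e)) * 2 ^ (f + 1 + e) = 2 ^ (d + 2) * 2 ^ (f + 1) := by
          rw [← pow_add, ← pow_add]; congr 1; omega
        linear_combination (-(B * B)) * h4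
      · simp only [Zsqrtd.im_mul]
        rw [show f + 1 + 1 + e = (f + 1 + e) + 1 by omega, pow_succ]
        ring

/-- Odd powers keep the exact power of two. -/
theorem two_pow_odd {c d : ℕ} (hc : 0 < c) (hd : c + 1 ≤ 2 * d) {A B : ℤ} (m : ℕ) :
    ∃ C D : ℤ, ((⟨1 + 2 ^ c * A, 2 ^ d * B⟩ : GaussianInt) ^ m) =
      ⟨1 + 2 ^ c * ((m : ℤ) * A + 2 * C), 2 ^ d * D⟩ := by
  induction m with
  | zero => exact ⟨0, 0, by ext <;> simp⟩
  | succ m ih =>
    obtain ⟨C, D, hz⟩ := ih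
    obtain ⟨c', rfl⟩ : ∃ c', c = c' + 1 := ⟨c - 1, by omega⟩
    obtain ⟨l, hl⟩ : ∃ l, 2 * d = c' + 1 + 1 + l := ⟨2 * d - (c' + 2), by omega⟩
    refine ⟨C + 2 ^ c' * A * ((m : ℤ) * A + 2 * C) - 2 ^ l * (D * B),
      B + 2 ^ (c' + 1) * (((m : ℤ) * A + 2 * C) * B) + D * (1 + 2 ^ (c' + 1) * A), ?_⟩
    rw [pow_succ, hz]
    have h4 : (2 : ℤ) ^ d * 2 ^ d = 2 ^ (c' + 1) * 2 * 2 ^ l := by
      rw [← pow_add, ← pow_succ, ← pow_add]; congr 1; omega
    ext
    · simp only [Zsqrtd.re_mul]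
      push_cast
      linear_combination (-(D * B)) * h4
    · simp only [Zsqrtd.im_mul]
      ring

/-- The real part of an odd power above one of `1 + u i` is not one, for even `u ≠ 0`. -/
theorem re_pow_ne_one {u : ℤ} (hu : Even u) (hu0 : u ≠ 0) {k : ℕ} (hk : Odd k) (hk3 : 3 ≤ k) :
    ((⟨1, u⟩ : GaussianInt) ^ k).re ≠ 1 := by
  obtain ⟨e, w, hw2, hwe⟩ :=
    Nat.exists_eq_two_pow_mul_odd (n := u.natAbs) (Int.natAbs_ne_zero.2 hu0)
  obtain ⟨W, hW, rfl⟩ : ∃ W : ℤ, Odd W ∧ u = 2 ^ e * W := by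
    rcases Int.natAbs_eq u with h | h
    · exact ⟨w, by exact_mod_cast hw2, by rw [h, hwe]; push_cast; ring⟩
    · exact ⟨-w, Odd.neg (by exact_mod_cast hw2), by rw [h, hwe]; push_cast; ring⟩
  have he : 0 < e := by
    by_contra h
    obtain rfl : e = 0 := by omega
    rw [pow_zero, one_mul, ← Int.not_odd_iff_even] at hu
    exact hu hW
  obtain ⟨f, m, hm, hkf⟩ := Nat.exists_eq_two_pow_mul_odd (n := k - 1) (by omega)
  obtain ⟨f', rfl⟩ : ∃ f', f = f' + 1 := ⟨f - 1, by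
    have : f ≠ 0 := fun h => by
      subst h
      obtain ⟨j, hj⟩ := hk
      obtain ⟨i, hi⟩ := hm
      simp at hkf
      omega
    omega⟩
  obtain ⟨A, B, hA, hz⟩ := two_pow_sq he hW f'
  obtain ⟨C, D, hz2⟩ := two_pow_odd (c := f' + 2 * e) (d := f' + 1 + e) (A := A) (B := B)
    (by omega) (by omega) m
  rw [show k = (k - 1) + 1 by omega, pow_succ, hkf, pow_mul, hz, hz2, Zsqrtd.re_mul]
  intro h
  have h4 : (2 : ℤ) ^ (f' + 1 + e) * 2 ^ e = 2 ^ (f' + 2 * e) * 2 := by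
    rw [← pow_add, ← pow_succ]; congr 1; omega
  have h5 : (2 : ℤ) ^ (f' + 2 * e) * ((m : ℤ) * A + 2 * C - 2 * (D * W)) = 0 := by
    linear_combination h + (D * W) * h4
  have h6 : Odd ((m : ℤ) * A + 2 * C - 2 * (D * W)) :=
    ((((Int.odd_coe_nat m).2 hm).mul hA).add_even (even_two_mul C)).sub_even (even_two_mul _)
  rw [(mul_eq_zero.1 h5).resolve_left (pow_ne_zero _ two_ne_zero)] at h6
  exact Int.not_odd_zero h6

/-- **Lebesgue**: `x ^ 2 + 1` is no odd higher power of an odd number above one. -/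
theorem sq_add_one_ne_pow {x p k : ℕ} (hp : Odd p) (hp1 : 1 < p) (hk : Odd k) (hk3 : 3 ≤ k) :
    x ^ 2 + 1 ≠ p ^ k := by
  intro hx
  have hxe : Even x := by
    have h1 : Odd (x ^ 2 + 1) := hx ▸ hp.pow
    rw [Nat.odd_add_one, Nat.not_odd_iff_even, Nat.even_pow] at h1
    exact h1.1
  let a : GaussianInt := ⟨x, 1⟩
  let b : GaussianInt := ⟨x, -1⟩
  have hab : a * b = (p : GaussianInt) ^ k := by
    rw [← Nat.cast_pow, ← hx]
    ext <;> simp [a, b, sq, Zsqrtd.re_mul, Zsqrtd.im_mul] <;> ring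
  have hco : IsCoprime a b := by
    have h2 : IsCoprime (a * b) (⟨0, 2⟩ : GaussianInt) := by
      rw [hab]
      obtain ⟨j, hj⟩ : Odd (p ^ k) := hp.pow
      refine ⟨1, ⟨0, (j : ℤ)⟩, ?_⟩
      rw [← Nat.cast_pow, hj]
      ext <;> simp [Zsqrtd.re_mul, Zsqrtd.im_mul] <;> ring
    obtain ⟨c, d, hcd⟩ := h2.of_mul_left_left
    refine ⟨c + d, -d, ?_⟩
    have hsub : a - b = (⟨0, 2⟩ : GaussianInt) := by ext <;> simp [a, b]
    rw [← hcd, ← hsub]
    ring
  obtain ⟨z, v, hv⟩ := exists_associated_pow_of_mul_eq_pow' hco hab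
  obtain ⟨i, hi⟩ := hk
  have hvk : (v ^ k) ^ k = v := by
    rw [← pow_mul, show k * k = 4 * (i * i + i) + 1 by subst hi; ring, pow_add, pow_mul,
      gaussian_unit_pow_four, one_pow, one_mul, pow_one]
  set y : GaussianInt := z * ((v ^ k : GaussianIntˣ) : GaussianInt) with hy
  have hya : y ^ k = a := by
    rw [hy, mul_pow, ← Units.val_pow_eq_pow_val, hvk, hv]
  have hn : y.im = 1 ∨ y.im = -1 := by
    have h1 := im_dvd_pow y k
    rw [hya] at h1
    exact Int.isUnit_iff.1 (isUnit_of_dvd_one h1)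
  have hnorm : y.re * y.re + 1 = (p : ℤ) := by
    have h1 : (Zsqrtd.norm y) ^ k = ((p : ℤ)) ^ k := by
      have h2 : Zsqrtd.norm (y ^ k) = Zsqrtd.norm y ^ k := map_pow Zsqrtd.normMonoidHom y k
      rw [← h2, hya, show ((p : ℤ) ^ k) = ((p ^ k : ℕ) : ℤ) by push_cast; rfl, ← hx]
      simp [a, Zsqrtd.norm]
      ring
    have h2 := (pow_left_inj₀ (GaussianInt.norm_nonneg y) (by positivity) (by omega)).1 h1
    rw [Zsqrtd.norm] at h2
    rcases hn with h | h <;> rw [h] at h2 <;> linarith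
  have hre0 : y.re ≠ 0 := fun h => by rw [h] at hnorm; norm_num at hnorm; omega
  have hree : Even y.re := by
    have h1 : Odd (y.re * y.re + 1) := hnorm ▸ ((Int.odd_coe_nat p).2 hp)
    rw [Int.odd_add, iff_iff_implies_and_implies, Int.odd_mul, Int.even_iff (n := (1:ℤ))] at h1
    rw [← Int.not_odd_iff_even]
    exact fun h => absurd (h1.1 ⟨h, h⟩) (by norm_num)
  let I : GaussianInt := ⟨0, 1⟩
  have hI : I ^ k = (-1) ^ i * I := by
    rw [hi, pow_succ, pow_mul]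
    congr 2
  have hs : ∀ (s : ℕ) (w : GaussianInt), (((-1 : GaussianInt) ^ s) * w).im = (-1) ^ s * w.im := by
    intro s w
    rcases s.even_or_odd with h | h <;> simp [h.neg_one_pow, Zsqrtd.im_neg]
  set u := -(y.im * y.re) with hu
  have hfac : y = (y.im : GaussianInt) * (I * ⟨1, u⟩) := by
    rcases hn with h | h <;> ext <;> simp [I, hu, h, Zsqrtd.re_mul, Zsqrtd.im_mul]
  have him := congrArg Zsqrtd.im hya
  rw [hfac, mul_pow, mul_pow, hI, ← Int.cast_pow, mul_assoc ((-1) ^ i : GaussianInt),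
    Zsqrtd.im_mul, Zsqrtd.re_intCast, Zsqrtd.im_intCast, zero_mul, add_zero, hs] at him
  have h1 : ((I * (⟨1, u⟩ : GaussianInt) ^ k)).im = ((⟨1, u⟩ : GaussianInt) ^ k).re := by
    simp [I, Zsqrtd.im_mul]
  rw [h1] at him
  have hue : Even u := (hree.mul_left _).neg
  have hu0 : u ≠ 0 := neg_ne_zero.2 (mul_ne_zero (by rcases hn with h | h <;> omega) hre0)
  have hkodd : Odd k := ⟨i, hi⟩
  have hr := re_pow_ne_one hue hu0 hkodd hk3
  -- modulo four the real part is one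
  have hmod : ∀ (j : ℕ), (4 : ℤ) ∣ ((⟨1, u⟩ : GaussianInt) ^ j).re - 1 ∧
      (2 : ℤ) ∣ ((⟨1, u⟩ : GaussianInt) ^ j).im := by
    obtain ⟨u', hu'⟩ := hue
    intro j
    induction j with
    | zero => simp
    | succ j ih =>
      obtain ⟨⟨r, hr'⟩, ⟨q, hq⟩⟩ := ih
      rw [pow_succ, Zsqrtd.re_mul, Zsqrtd.im_mul]
      refine ⟨⟨r - q * u', ?_⟩, ⟨u' * ((⟨1, u⟩ : GaussianInt) ^ j).re + q, ?_⟩⟩
      · simp only [hq]; linear_combination hr' - 2 * q * hu'
      · simp only [hq]; linear_combination ((⟨1, u⟩ : GaussianInt) ^ j).re * hu' 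
  obtain ⟨r, hr'⟩ := (hmod k).1
  set R := ((⟨1, u⟩ : GaussianInt) ^ k).re
  have hRu : R = 1 ∨ R = -1 := by
    refine Int.isUnit_iff.1 (IsUnit.of_mul_eq_one ((y.im) ^ k * (-1) ^ i) ?_)
    linear_combination him
  omega

end CfsgLib.ThreeBlock9
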