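import Cfsg.Agent.Lib.NumberTheory.Zsigmondy
import Cfsg.Agent.Lib.ThreeBlock9.Lebesgue

/-! # The arithmetic left by two characters over the trivial one -/

set_option autoImplicit false

namespace CfsgLib.ThreeBlock9

open CfsgLib.NumberTheory

/-- A number three modulo four times a power of two is no sum of two squares. -/
theorem sq_add_sq_ne {a : ℕ} (ha : a % 4 = 3) : ∀ (c x y : ℕ), x ^ 2 + y ^ 2 ≠ a * 2 ^ c := by
  have hsq : ∀ x : ℤ, x ^ 2 % 4 = 0 ∨ x ^ 2 % 4 = 1 := fun x => by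
    rcases Int.even_or_odd' x with ⟨t, rfl | rfl⟩
    · left; ring_nf; omega
    · right; ring_nf; omega
  suffices h : ∀ (c : ℕ) (x y : ℤ), x ^ 2 + y ^ 2 ≠ (a : ℤ) * 2 ^ c by
    intro c x y he
    exact h c x y (by exact_mod_cast he)
  intro c
  induction c with
  | zero =>
    intro x y he
    rw [pow_zero, mul_one] at he
    rcases hsq x with h | h <;> rcases hsq y with h' | h' <;> omega
  | succ c ih =>
    intro x y he
    have hpar : Even (x + y) := by
      have h : Even (x ^ 2 + y ^ 2) := ⟨(a : ℤ) * 2 ^ c, by rw [he, pow_succ]; ring⟩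
      simpa [Int.even_add, Int.even_pow] using h
    obtain ⟨s, hs⟩ := hpar
    apply ih s (x - s)
    rw [pow_succ] at he
    have hy : y = 2 * s - x := by omega
    subst hy
    linarith [show 2 * (s ^ 2 + (x - s) ^ 2) = 2 * ((a : ℤ) * 2 ^ c) by linear_combination he]

theorem two_pow_sub_one_ne {n : ℕ} (hn : 2 ≤ n) (x y : ℕ) : x ^ 2 + y ^ 2 ≠ 2 ^ n - 1 := by
  have h := sq_add_sq_ne (a := 2 ^ n - 1) (by
    obtain ⟨m, rfl⟩ : ∃ m, n = m + 2 := ⟨n - 2, by omega⟩
    have := Nat.one_le_two_pow (n := m)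
    rw [pow_add]
    omega) 0 x y
  simpa using h

theorem mersenne_sq_sub_one_ne {p a : ℕ} (ha : 3 ≤ a) (hp : p + 1 = 2 ^ a) (x y : ℕ) :
    x ^ 2 + y ^ 2 ≠ p ^ 2 - 1 := by
  obtain ⟨b, rfl⟩ : ∃ b, a = b + 3 := ⟨a - 3, by omega⟩
  have hp' : p = 8 * 2 ^ b - 1 := by rw [pow_add] at hp; omega
  have hb := Nat.one_le_two_pow (n := b)
  have h := sq_add_sq_ne (a := 4 * 2 ^ b - 1) (by omega) (b + 4) x y
  intro he
  apply h
  rw [he, pow_add]
  have h2 : p ^ 2 - 1 = (p + 1) * (p - 1) := by simpa using Nat.sq_sub_sq p 1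
  rw [h2, show p + 1 = 8 * 2 ^ b by omega, show p - 1 = 2 * (4 * 2 ^ b - 1) by omega]
  ring

theorem prime_mod_four_of_eq_sq_add_sq {r x y : ℕ} (hr : r.Prime) (h2 : r ≠ 2)
    (h : x ^ 2 + y ^ 2 = r) : r % 4 = 1 := by
  obtain ⟨t, ht⟩ := hr.odd_of_ne_two h2
  by_contra hne
  exact sq_add_sq_ne (show r % 4 = 3 by omega) 0 x y (by simpa using h)

/-- Coprime factors of a square are squares. -/
theorem exists_sq_of_coprime {a b c : ℕ} (hab : a.Coprime b) (h : a * b = c ^ 2) :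
    ∃ d, a = d ^ 2 :=
  exists_eq_pow_of_mul_eq_pow (Nat.isUnit_iff.2 hab) h

theorem pow_add_one_ne_sq {p k : ℕ} (hp : p.Prime) (hp2 : p ≠ 2) (hk : 2 ≤ k) (c : ℕ) :
    p ^ k + 1 ≠ c ^ 2 := by
  intro h
  have hc : 2 ≤ c := by
    by_contra hc
    have := Nat.one_le_pow k p hp.pos
    interval_cases c <;> omega
  have h1 : (c - 1) * (c + 1) = p ^ k := by
    have := Nat.sq_sub_sq c 1
    rw [one_pow] at this
    rw [mul_comm, ← this]
    omega
  obtain ⟨i, -, hi⟩ := (Nat.dvd_prime_pow hp).1 (Dvd.intro _ h1)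
  obtain ⟨j, -, hj⟩ := (Nat.dvd_prime_pow hp).1 (Dvd.intro_left _ h1)
  have hi0 : i = 0 := by
    by_contra hi0
    have hd1 : p ∣ c - 1 := hi ▸ dvd_pow_self p hi0
    have hd2 : p ∣ c + 1 := by
      rw [hj]
      refine dvd_pow_self p fun hj0 => ?_
      rw [hj0, pow_zero] at hj
      omega
    have := Nat.dvd_sub hd2 hd1
    rw [show c + 1 - (c - 1) = 2 by omega] at this
    exact hp2 ((Nat.prime_dvd_prime_iff_eq hp Nat.prime_two).1 this)
  rw [hi0, pow_zero] at hi
  obtain rfl : c = 2 := by omega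
  have h3 : p ^ k = 3 := by omega
  have h9 : p ^ 2 ≤ p ^ k := Nat.pow_le_pow_right hp.pos hk
  nlinarith [hp.two_le]

theorem pow_sub_one_ne_sq {p k : ℕ} (hp : p.Prime) (hp2 : p ≠ 2) (hk : 2 ≤ k) (c : ℕ) :
    p ^ k - 1 ≠ c ^ 2 := by
  intro h
  have hpk := Nat.one_le_pow k p hp.pos
  have h1 : c ^ 2 + 1 = p ^ k := by omega
  rcases Nat.even_or_odd k with ⟨j, rfl⟩ | hodd
  · rw [← two_mul, mul_comm, pow_mul] at h1
    have h4 : 2 ≤ p ^ j := (Nat.le_self_pow (by omega) p).trans' hp.two_le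
    have : c < p ^ j := by nlinarith
    nlinarith
  · exact sq_add_one_ne_pow (hp.odd_of_ne_two hp2) hp.one_lt hodd (by
      obtain ⟨j, rfl⟩ := hodd; omega) h1

/-- **The arithmetic.** Only `p = 3`, `n = 4` remain. -/
theorem eq_three_four {p n r g : ℕ} (hp : p.Prime) (hp2 : p ≠ 2) (hr : IsPPD r p n)
    (hrn : r = n + 1) (hr4 : r % 4 = 1) (hq : p ^ n - 1 = r * g ^ 2) (hrg : ¬ r ∣ g)
    (hppd : ∀ s, IsPPD s p n → s = r) : p = 3 ∧ n = 4 := by
  obtain ⟨k, rfl⟩ : ∃ k, n = 4 * k := ⟨n / 4, by omega⟩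
  have hk : 0 < k := by
    have := hr.1.two_le
    omega
  set P := p ^ k with hP
  have hPodd : Odd P := (hp.odd_of_ne_two hp2).pow
  have hP3 : 3 ≤ P := le_trans (by
    have := hp.two_le
    omega) (Nat.le_self_pow hk.ne' p)
  obtain ⟨u, hu⟩ := hPodd
  have hW : p ^ (4 * k) - 1 = (16 * (u * (u + 1))) * (2 * (u * u + u) + 1) / 2 * 1 := by
    rw [pow_mul', ← hP, hu]
    rw [show (2 * u + 1) ^ 4 = (16 * (u * (u + 1))) * (2 * (u * u + u) + 1) / 2 + 1 by
      rw [show 16 * (u * (u + 1)) * (2 * (u * u + u) + 1) =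
        2 * (8 * (u * (u + 1)) * (2 * (u * u + u) + 1)) by ring, Nat.mul_div_cancel_left _ two_pos]
      ring]
    omega
  set W := 2 * (u * u + u) + 1 with hWdef
  set U := 8 * (u * (u + 1)) with hUdef
  have hUW : U * W = r * g ^ 2 := by
    rw [← hq, hW, show 16 * (u * (u + 1)) * W = 2 * (U * W) by rw [hUdef]; ring,
      Nat.mul_div_cancel_left _ two_pos, mul_one]
  have hcop : U.Coprime W := by
    have h1 : Nat.Coprime (u * (u + 1)) W := by
      rw [hWdef, show 2 * (u * u + u) + 1 = 1 + 2 * (u * (u + 1)) by ring,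
        Nat.coprime_add_mul_right_right]
      exact Nat.coprime_one_right _
    have h2 : Nat.Coprime 8 W := by
      rw [show 8 = 2 ^ 3 by norm_num]
      exact Nat.Coprime.pow_left _ (Nat.prime_two.coprime_iff_not_dvd.2 (by omega))
    exact Nat.Coprime.mul_left h2 h1
  have hsub : p ^ (2 * k) - 1 = 4 * (u * (u + 1)) := by
    rw [pow_mul', ← hP, hu, show (2 * u + 1) ^ 2 = 4 * (u * (u + 1)) + 1 by ring,
      Nat.add_sub_cancel]
  have hrU : ¬ r ∣ U := by
    intro h
    refine hr.2.2 (2 * k) (by omega) (by omega) ?_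
    rw [hsub]
    rw [hUdef, show 8 * (u * (u + 1)) = 2 * (4 * (u * (u + 1))) by ring] at h
    rcases hr.1.dvd_mul.1 h with h' | h'
    · have := Nat.le_of_dvd two_pos h'
      omega
    · exact h'
  obtain ⟨W', hW'⟩ : r ∣ W := (hr.1.dvd_mul.1 (Dvd.intro _ hUW.symm)).resolve_left hrU
  have hW'g : U * W' = g ^ 2 := by
    rw [hW'] at hUW
    exact mul_left_cancel₀ hr.1.ne_zero (by rw [← hUW]; ring)
  obtain ⟨s, hs⟩ := exists_sq_of_coprime
    (Nat.Coprime.coprime_dvd_right ⟨r, by rw [hW']; ring⟩ hcop) hW'g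
  -- small `k`
  rcases Nat.lt_or_ge 1 k with hk2 | hk2
  swap
  · obtain rfl : k = 1 := by omega
    refine ⟨?_, by norm_num⟩
    have hW1 : W' = 1 := by
      by_contra hne
      obtain ⟨t, ht, htd⟩ := Nat.exists_prime_and_dvd hne
      have htW : t ∣ W := hW' ▸ htd.mul_left r
      have htodd : t ≠ 2 := by
        rintro rfl
        omega
      have htp : IsPPD t p (4 * 1) := by
        refine ⟨ht, ?_, fun j hj hj4 hd => ?_⟩
        · rw [hq, ← hUW]
          exact htW.mul_left U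
        · have h2 : t ∣ p ^ (2 * 1) - 1 ∨ t ∣ p ^ 3 - 1 := by
            interval_cases j
            · left
              refine hd.trans ?_
              simpa using Nat.sub_dvd_pow_sub_pow p 1 2
            · exact Or.inl hd
            · exact Or.inr hd
          have hU : t ∣ p ^ (2 * 1) - 1 := by
            rcases h2 with h2 | h2
            · exact h2
            · have h4 : t ∣ p ^ (4 * 1) - 1 := by rw [hq, ← hUW]; exact htW.mul_left U
              have hg := Nat.dvd_gcd h2 h4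
              rw [Nat.pow_sub_one_gcd_pow_sub_one] at hg
              norm_num at hg ⊢
              exact hg.trans (by simpa using Nat.sub_dvd_pow_sub_pow p 1 2)
          rw [hsub] at hU
          have h8 : t ∣ U := by
            rw [hUdef, show 8 * (u * (u + 1)) = 2 * (4 * (u * (u + 1))) by ring]
            exact hU.mul_left 2
          exact ht.not_dvd_one (hcop.gcd_eq_one ▸ Nat.dvd_gcd h8 htW)
      obtain rfl := hppd t htp
      exact hrg (hr.1.dvd_of_dvd_pow (hW'g ▸ htd.mul_left U))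
    rw [hW1, mul_one, hrn] at hW'
    have h2 : u * u + u = 2 := by omega
    have : u = 1 := by nlinarith
    subst this
    simpa [hP] using hu
  -- `k ≥ 2`
  exfalso
  have hu0 : 0 < u := by omega
  have hu1 : u.Coprime (u + 1) := by simp
  obtain ⟨w, hw⟩ : ∃ w, 2 * (u * (u + 1)) = w ^ 2 := by
    obtain ⟨w, rfl⟩ : 2 ∣ s := Nat.prime_two.dvd_of_dvd_pow
      (show 2 ∣ s ^ 2 by rw [← hs, hUdef]; omega)
    refine ⟨w, ?_⟩
    rw [mul_pow] at hs
    omega
  rcases Nat.even_or_odd u with ⟨v, hv⟩ | ⟨v, hv⟩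
  · have hcv : Nat.Coprime (4 * v) (u + 1) := by
      have h4 : Nat.Coprime 2 (u + 1) := Nat.prime_two.coprime_iff_not_dvd.2 (by omega)
      have h5 : Nat.Coprime v (u + 1) :=
        Nat.Coprime.coprime_dvd_left ⟨2, by omega⟩ hu1
      exact Nat.Coprime.mul_left (by simpa using h4.pow_left 2) h5
    have hw' : (4 * v) * (u + 1) = w ^ 2 := by
      rw [← hw, hv]; ring
    obtain ⟨d, hd⟩ := exists_sq_of_coprime hcv hw'
    refine pow_sub_one_ne_sq hp hp2 hk2 d ?_
    rw [← hP, hu, ← hd]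
    omega
  · obtain ⟨v', hv'⟩ : ∃ v', u + 1 = 2 * v' := ⟨v + 1, by omega⟩
    have hcv : Nat.Coprime (4 * v') u := by
      have h4 : Nat.Coprime 2 u := Nat.prime_two.coprime_iff_not_dvd.2 (by omega)
      have h5 : Nat.Coprime v' u := Nat.Coprime.coprime_dvd_left ⟨2, by omega⟩ hu1.symm
      exact Nat.Coprime.mul_left (by simpa using h4.pow_left 2) h5
    have hw' : (4 * v') * u = w ^ 2 := by
      rw [← hw, hv']; ring
    obtain ⟨d, hd⟩ := exists_sq_of_coprime hcv hw'
    refine pow_add_one_ne_sq hp hp2 hk2 d ?_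
    rw [← hP, hu, ← hd]
    omega

end CfsgLib.ThreeBlock9
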