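import Cfsg.Agent.Lib.NumberTheory.Zsigmondy

/-!
# An automorphism of an elementary abelian group of primitive prime order

It is irreducible, its centraliser is cyclic and it is conjugate to at most `n` of its powers.
-/

set_option autoImplicit false
set_option linter.style.haveILetI false

namespace CfsgLib.ThreeBlock9

open CfsgLib.NumberTheory Polynomial

universe u

variable {W : Type u} [CommGroup W] [Finite W] {p n r : ℕ} [hp : Fact p.Prime]

/-- The only nontrivial subgroup invariant under such an automorphism is the whole group. -/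
theorem invariant_eq (hcard : Nat.card W = p ^ n) (hn : 0 < n) (hr : IsPPD r p n) {g : MulAut W}
    (hg : orderOf g = r) {U : Subgroup W} (hU : ∀ u ∈ U, g u ∈ U) : U = ⊥ ∨ U = ⊤ := by
  classical
  haveI : Fact r.Prime := ⟨hr.1⟩
  haveI : Finite (MulAut W) := Finite.of_injective (fun f : MulAut W => (f : W → W))
    fun a b h => MulEquiv.ext fun x => congrFun h x
  let Z := Subgroup.zpowers g
  have hZ : IsPGroup r Z := IsPGroup.of_card (n := 1) (by rw [Nat.card_zpowers, hg, pow_one])
  let F : Subgroup W :=
    { carrier := {w | g w = w}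
      one_mem' := map_one g
      mul_mem' := fun {a b} (ha : g a = a) (hb : g b = b) => by simp [ha, hb]
      inv_mem' := fun {a} (ha : g a = a) => by simp [ha] }
  have hfix : ∀ (S : Set W), (∀ w ∈ S, g w ∈ S) → Nat.card S ≡ Nat.card {w // w ∈ S ∧ g w = w} [MOD r] := by
    intro S hS
    have hSi : ∀ z ∈ Z, ∀ w ∈ S, (z : MulAut W) w ∈ S := by
      intro z hz w hw
      rw [(isOfFinOrder_of_finite g).mem_zpowers_iff_mem_range_orderOf] at hz
      obtain ⟨i, -, rfl⟩ := Finset.mem_image.1 hz
      clear * - hS hw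
      induction i with
      | zero => simpa using hw
      | succ i ih => rw [pow_succ', MulAut.mul_apply]; exact hS _ ih
    let act : MulAction Z S :=
      { smul := fun z w => ⟨(z : MulAut W) w, hSi z z.2 w w.2⟩
        one_smul := fun w => Subtype.ext rfl
        mul_smul := fun a b w => Subtype.ext rfl }
    refine (hZ.card_modEq_card_fixedPoints S).trans (congrArg (· % r) ?_)
    refine Nat.card_congr
      ⟨fun w => ⟨w.1, w.1.2, congrArg Subtype.val (w.2 ⟨g, Subgroup.mem_zpowers g⟩)⟩,
        fun w => ⟨⟨w.1, w.2.1⟩, fun z => Subtype.ext ?_⟩, fun w => rfl, fun w => rfl⟩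
    obtain ⟨i, hi⟩ := Subgroup.mem_zpowers_iff.1 z.2
    show (z : MulAut W) w.1 = w.1
    rw [← hi]
    exact (MulAction.stabilizer (MulAut W) w.1).zpow_mem (show g ∈ MulAction.stabilizer (MulAut W) w.1 from w.2.2) i
  have hpow : ∀ V : Subgroup W, ∃ j ≤ n, Nat.card V = p ^ j := fun V =>
    (Nat.dvd_prime_pow hp.out).1 (hcard ▸ V.card_subgroup_dvd_card)
  have hmod : ∀ i j : ℕ, j ≤ i → i ≤ n → p ^ i ≡ p ^ j [MOD r] → i = j ∨ (i = n ∧ j = 0) := by
    intro i j hji hin h
    have h1 : r ∣ p ^ j * (p ^ (i - j) - 1) := by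
      rw [Nat.mul_sub, mul_one, ← pow_add, Nat.add_sub_cancel' hji]
      exact (Nat.modEq_iff_dvd' (Nat.pow_le_pow_right hp.out.pos hji)).1 h.symm
    rcases hr.1.dvd_mul.1 h1 with h2 | h2
    · have h3 := (Nat.prime_dvd_prime_iff_eq hr.1 hp.out).1 (hr.1.dvd_of_dvd_pow h2)
      subst h3
      have h4 := Nat.dvd_sub (dvd_pow_self r hn.ne') hr.2.1
      rw [Nat.sub_sub_self (Nat.one_le_pow _ _ hr.1.pos)] at h4
      exact absurd h4 hr.1.not_dvd_one
    · by_contra hne
      exact hr.2.2 (i - j) (by omega) (by omega) h2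
  have hFbot : F = ⊥ := by
    obtain ⟨j, hj, hFj⟩ := hpow F
    have h := hfix Set.univ fun w _ => Set.mem_univ _
    rw [Nat.card_univ, hcard, Nat.card_congr (Equiv.subtypeEquivRight (q := fun w => w ∈ F)
      fun w => ⟨fun h => h.2, fun h => ⟨Set.mem_univ _, h⟩⟩), hFj] at h
    rcases hmod n j hj le_rfl h with rfl | ⟨-, rfl⟩
    · exfalso
      have hF : F = ⊤ := Subgroup.eq_top_of_card_eq F (hFj.trans hcard.symm)
      have : g = 1 := MulEquiv.ext fun w => (hF ▸ Subgroup.mem_top w : w ∈ F)
      rw [this, orderOf_one] at hg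
      exact hr.1.ne_one hg.symm
    · exact Subgroup.eq_bot_of_card_eq F (by rw [hFj, pow_zero])
  obtain ⟨i, hi, hUi⟩ := hpow U
  have h := hfix U hU
  rw [show Nat.card (U : Set W) = p ^ i from hUi, show Nat.card {w // w ∈ (U : Set W) ∧ g w = w} = p ^ 0 by
    rw [pow_zero, Nat.card_eq_one_iff_exists]
    exact ⟨⟨1, U.one_mem, map_one g⟩, fun w => Subtype.ext
      ((Subgroup.eq_bot_iff_forall F).1 hFbot w.1 w.2.2)⟩] at h
  rcases hmod i 0 (Nat.zero_le _) hi h with rfl | ⟨rfl, -⟩
  · exact Or.inl (Subgroup.eq_bot_of_card_eq U (by rw [hUi, pow_zero]))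
  · exact Or.inr (Subgroup.eq_top_of_card_eq U (hUi.trans hcard.symm))

/-- An automorphism as a linear map. -/
def endo [Module (ZMod p) (Additive W)] : MulAut W →* Module.End (ZMod p) (Additive W) where
  toFun f := (MonoidHom.toAdditive f.toMonoidHom).toZModLinearMap p
  map_one' := LinearMap.ext fun w => rfl
  map_mul' a b := LinearMap.ext fun w => rfl

/-- The linear algebra of an irreducible automorphism of primitive prime order. -/
theorem cent_and_conj (hexp : ∀ w : W, w ^ p = 1) (hcard : Nat.card W = p ^ n) (hn : 0 < n)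
    (hr : IsPPD r p n) {g : MulAut W} (hg : orderOf g = r) :
    (∀ C : Subgroup (MulAut W), (∀ c ∈ C, c * g = g * c) → IsCyclic C) ∧
      ((∀ i : ℕ, ¬ r ∣ i → ∃ h : MulAut W, h * g * h⁻¹ = g ^ i) → r - 1 ≤ n) := by
  classical
  haveI : Finite (MulAut W) := Finite.of_injective (fun f : MulAut W => (f : W → W))
    fun a b h => MulEquiv.ext fun x => congrFun h x
  have hexp' : ∀ w : Additive W, p • w = 0 := fun w => congrArg Additive.ofMul (hexp w.toMul)
  haveI : Module (ZMod p) (Additive W) := AddCommGroup.zmodModule hexp'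
  haveI : Module.Finite (ZMod p) (Additive W) := Module.Finite.of_finite
  let L : MulAut W →* Module.End (ZMod p) (Additive W) := endo
  have hL : Function.Injective L := fun a b e => MulEquiv.ext fun w =>
    congrArg Additive.toMul (LinearMap.congr_fun e (Additive.ofMul w))
  set T := L g with hT
  let K : Subalgebra (ZMod p) (Module.End (ZMod p) (Additive W)) := Algebra.adjoin (ZMod p) {T}
  letI : CommRing K := { (inferInstance : Ring K) with
    mul_comm := fun a b => IsMulCommutative.is_comm.comm a b }
  have hcomm : ∀ a ∈ K, a * T = T * a := fun a ha =>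
    congrArg Subtype.val (mul_comm (⟨a, ha⟩ : K) ⟨T, Algebra.self_mem_adjoin_singleton _ _⟩)
  have hfin : Module.finrank (ZMod p) (Additive W) = n := by
    have h : Nat.card (Additive W) = Nat.card (ZMod p) ^ Module.finrank (ZMod p) (Additive W) :=
      Module.natCard_eq_pow_finrank
    rw [show Nat.card (Additive W) = p ^ n from hcard, Nat.card_zmod] at h
    exact (Nat.pow_right_injective hp.out.two_le h).symm
  haveI : Nontrivial (Additive W) := by
    apply Finite.one_lt_card_iff_nontrivial.1
    rw [show Nat.card (Additive W) = p ^ n from hcard]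
    exact Nat.one_lt_pow hn.ne' hp.out.one_lt
  have hinv : ∀ (V : AddSubgroup (Additive W)), (∀ v ∈ V, T v ∈ V) → V = ⊥ ∨ V = ⊤ := by
    intro V hV
    rcases invariant_eq hcard hn hr hg (U := V.toSubgroup') (fun u hu => hV _ hu) with h | h
    · exact Or.inl (eq_bot_iff.2 fun v hv => congrArg Additive.ofMul
        ((Subgroup.eq_bot_iff_forall _).1 h v.toMul hv))
    · exact Or.inr (eq_top_iff.2 fun v _ => (h ▸ Subgroup.mem_top v.toMul : v.toMul ∈ V.toSubgroup'))
  have hker : ∀ a ∈ K, a ≠ 0 → Function.Injective a := fun a ha ha0 => by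
    rcases hinv (LinearMap.ker a).toAddSubgroup (fun v hv => by
      show a (T v) = 0
      rw [← Module.End.mul_apply, hcomm a ha, Module.End.mul_apply,
        show a v = 0 from hv, map_zero]) with h | h
    · rw [← LinearMap.ker_eq_bot]
      exact Submodule.toAddSubgroup_injective h
    · exact absurd (LinearMap.ext fun v => show a v = 0 from
        (h ▸ AddSubgroup.mem_top v : v ∈ (LinearMap.ker a).toAddSubgroup)) ha0
  haveI : Nontrivial K := ⟨⟨0, 1, fun h => zero_ne_one (congrArg Subtype.val h)⟩⟩
  haveI : NoZeroDivisors K := ⟨fun {a b} h => by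
    by_contra hc
    push Not at hc
    refine hc.2 (Subtype.ext (LinearMap.ext fun v => hker a a.2 (fun h0 => hc.1 (Subtype.ext h0)) ?_))
    simpa using LinearMap.congr_fun (congrArg Subtype.val h) v⟩
  haveI : IsDomain K := NoZeroDivisors.to_isDomain K
  constructor
  · intro C hC
    obtain ⟨w₀, hw₀⟩ := exists_ne (0 : Additive W)
    let V : AddSubgroup (Additive W) :=
      { carrier := {v | ∃ a ∈ K, a w₀ = v}
        zero_mem' := ⟨0, K.zero_mem, rfl⟩
        add_mem' := fun ⟨a, ha, ea⟩ ⟨b, hb, eb⟩ => ⟨a + b, K.add_mem ha hb, by simp [ea, eb]⟩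
        neg_mem' := fun ⟨a, ha, ea⟩ => ⟨-a, K.neg_mem ha, by simp [ea]⟩ }
    have hV : V = ⊤ := (hinv V (fun v ⟨a, ha, ea⟩ => ⟨T * a,
      K.mul_mem (Algebra.self_mem_adjoin_singleton _ _) ha, by simp [ea]⟩)).resolve_left fun h =>
        hw₀ ((AddSubgroup.eq_bot_iff_forall V).1 h w₀ ⟨1, K.one_mem, rfl⟩)
    have hmem : ∀ c ∈ C, L c ∈ K := by
      intro c hc
      obtain ⟨a, ha, ea⟩ : ∃ a ∈ K, a w₀ = L c w₀ :=
        (hV ▸ AddSubgroup.mem_top (L c w₀) : L c w₀ ∈ V)
      suffices L c = a by rw [this]; exact ha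
      rw [← sub_eq_zero]
      rcases hinv (LinearMap.ker (L c - a)).toAddSubgroup (fun v hv => by
        show (L c - a) (T v) = 0
        rw [← Module.End.mul_apply, sub_mul, hT, ← map_mul, hC c hc, map_mul, ← hT, hcomm a ha,
          ← mul_sub, Module.End.mul_apply, show (L c - a) v = 0 from hv, map_zero]) with h | h
      · exact absurd ((AddSubgroup.eq_bot_iff_forall _).1 h w₀ (by
          show (L c - a) w₀ = 0
          rw [LinearMap.sub_apply, ea, sub_self])) hw₀
      · exact LinearMap.ext fun v =>
          (h ▸ AddSubgroup.mem_top v : v ∈ (LinearMap.ker (L c - a)).toAddSubgroup)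
    let φ : C →* K :=
      { toFun := fun c => ⟨L c, hmem c c.2⟩
        map_one' := Subtype.ext (map_one L)
        map_mul' := fun a b => Subtype.ext (map_mul L (a : MulAut W) b) }
    exact isCyclic_of_subgroup_isDomain φ fun a b e =>
      Subtype.ext (hL (congrArg Subtype.val e))
  · intro hconj
    set f := T.charpoly
    have hroot : ∀ i : ℕ, ¬ r ∣ i → (⟨T, Algebra.self_mem_adjoin_singleton _ _⟩ : K) ^ i ∈
        (f.map (algebraMap (ZMod p) K)).roots.toFinset := by
      intro i hi
      obtain ⟨h, hh⟩ := hconj i hi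
      rw [Multiset.mem_toFinset, mem_roots
        (Polynomial.map_ne_zero (LinearMap.charpoly_monic T).ne_zero),
        IsRoot, eval_map, ← aeval_def]
      refine Subtype.ext ?_
      show K.val (aeval _ f) = (0 : Module.End (ZMod p) (Additive W))
      rw [← aeval_algHom_apply, map_pow, Subalgebra.coe_val]
      show aeval (L g ^ i) f = 0
      rw [← map_pow, ← hh]
      have hsemi : ∀ q : (ZMod p)[X], SemiconjBy (L h) (aeval (L g) q) (aeval (L (h * g * h⁻¹)) q) := by
        intro q
        induction q using Polynomial.induction_on' with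
        | add q s hq hs => simp only [map_add]; exact hq.add_right hs
        | monomial m c =>
          simp only [aeval_monomial]
          refine SemiconjBy.mul_right (Algebra.commutes c (L h)).symm ?_
          rw [← map_pow, ← map_pow, conj_pow, SemiconjBy, ← map_mul, ← map_mul]
          group
      have h1 := hsemi f
      rw [show aeval (L g) f = 0 from LinearMap.aeval_self_charpoly T, SemiconjBy, mul_zero] at h1
      calc aeval (L (h * g * h⁻¹)) f
          = aeval (L (h * g * h⁻¹)) f * (L h * L h⁻¹) := by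
            rw [← map_mul, mul_inv_cancel, map_one, mul_one]
        _ = 0 := by rw [← mul_assoc, ← h1, zero_mul]
        _ = _ := rfl
    have hinj : Set.InjOn (fun i : ℕ => (⟨T, Algebra.self_mem_adjoin_singleton _ _⟩ : K) ^ i)
        (Finset.Ioo 0 r : Finset ℕ) := by
      intro i hi j hj e
      rw [Finset.coe_Ioo, Set.mem_Ioo] at hi hj
      have h1 : L (g ^ i) = L (g ^ j) := by
        rw [map_pow, map_pow]
        simpa [hT] using congrArg Subtype.val e
      exact pow_injOn_Iio_orderOf (x := g) (by simp [hg, hi.2]) (by simp [hg, hj.2]) (hL h1)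
    calc r - 1 = (Finset.Ioo 0 r).card := by simp
      _ ≤ (f.map (algebraMap (ZMod p) K)).roots.toFinset.card :=
        Finset.card_le_card_of_injOn _ (fun i hi => hroot i fun hd => by
          rw [Finset.coe_Ioo, Set.mem_Ioo] at hi
          have := Nat.le_of_dvd hi.1 hd
          omega) hinj
      _ ≤ Multiset.card (f.map (algebraMap (ZMod p) K)).roots := Multiset.toFinset_card_le _
      _ ≤ (f.map (algebraMap (ZMod p) K)).natDegree := card_roots' _
      _ ≤ f.natDegree := natDegree_map_le
      _ = n := by rw [LinearMap.charpoly_natDegree, hfin]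

end CfsgLib.ThreeBlock9
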