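import Cfsg.Agent.Lib.ThreeBlock9.Arith
import Cfsg.Agent.Lib.ThreeBlock9.Linear

/-!
# The group left by two characters over the trivial one

A group of automorphisms of `W` transitive on the nontrivial elements, with all good elements
conjugate and the numerical constraints from two characters, does not exist.
-/

set_option autoImplicit false
set_option linter.unusedSectionVars false
set_option linter.style.haveILetI false

namespace CfsgLib.ThreeBlock9

open CfsgLib.NumberTheory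

universe u

variable {A : Type u} [Group A]

/-- With each element commuting with it, `e` generates a cyclic subgroup of `E`. -/
def GoodE (E : Subgroup A) (e : A) : Prop :=
  ∀ h ∈ E, e * h = h * e → ∃ z ∈ E, e ∈ Subgroup.zpowers z ∧ h ∈ Subgroup.zpowers z

variable [Finite A]

theorem goodE_of_cyclic {E : Subgroup A} {e : A} (he : e ∈ E)
    (hc : IsCyclic (E ⊓ Subgroup.centralizer {e} : Subgroup A)) : GoodE E e := by
  obtain ⟨⟨z, hz⟩, hgen⟩ := IsCyclic.exists_generator (α := (E ⊓ Subgroup.centralizer {e} : Subgroup A))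
  intro h hh hcomm
  have key : ∀ a ∈ E ⊓ Subgroup.centralizer {e}, a ∈ Subgroup.zpowers z := fun a ha => by
    obtain ⟨i, hi⟩ := Subgroup.mem_zpowers_iff.1 (hgen ⟨a, ha⟩)
    exact Subgroup.mem_zpowers_iff.2 ⟨i, by simpa using congrArg Subtype.val hi⟩
  exact ⟨z, hz.1, key e ⟨he, Subgroup.mem_centralizer_singleton_iff.2 rfl⟩,
    key h ⟨hh, Subgroup.mem_centralizer_singleton_iff.2 hcomm.symm⟩⟩

variable {W : Type u} [CommGroup W] [Finite W] {p n : ℕ} [hp : Fact p.Prime]

instance : Finite (MulAut W) := Finite.of_injective (fun f : MulAut W => (f : W → W))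
  fun _ _ h => MulEquiv.ext fun x => congrFun h x

/-- The subgroup of fixed elements. -/
def fixedBy' (z : MulAut W) : Subgroup W where
  carrier := {w | z w = w}
  one_mem' := map_one z
  mul_mem' {a b} (ha : z a = a) (hb : z b = b) := show z (a * b) = a * b by rw [map_mul, ha, hb]
  inv_mem' {a} (ha : z a = a) := show z a⁻¹ = a⁻¹ by rw [map_inv, ha]

theorem eq_inv_of_sq_of_fixed_eq_bot {z : MulAut W} (hz : z * z = 1)
    (hfix : ∀ w, z w = w → w = 1) (w : W) : z w = w⁻¹ := by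
  refine eq_inv_of_mul_eq_one_left (hfix _ ?_)
  rw [map_mul, ← MulAut.mul_apply, hz, MulAut.one_apply, mul_comm]

/-- The stabiliser of a nontrivial element in a `3'`-group on `3 ^ 2` has at most two elements. -/
theorem card_stab_le_two (hexp : ∀ w : W, w ^ 3 = 1) (hcard : Nat.card W = 3 ^ 2)
    (S : Subgroup (MulAut W)) (hS : ¬ 3 ∣ Nat.card S) {w₀ : W} (hw₀ : w₀ ≠ 1)
    (hfix : ∀ s ∈ S, s w₀ = w₀) : Nat.card S ≤ 2 := by
  classical
  haveI : Fact (Nat.Prime 3) := ⟨Nat.prime_three⟩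
  set N := Subgroup.zpowers w₀
  have hN : Nat.card N = 3 := by rw [Nat.card_zpowers, orderOf_eq_prime (hexp w₀) hw₀]
  have hQ : Nat.card (W ⧸ N) = 3 := by
    have h := N.card_eq_card_quotient_mul_card_subgroup
    rw [hcard, hN] at h
    omega
  obtain ⟨q₀, hq₀⟩ : ∃ q : W ⧸ N, q ≠ 1 := by
    haveI : Nontrivial (W ⧸ N) := Finite.one_lt_card_iff_nontrivial.1 (by omega)
    exact exists_ne 1
  obtain ⟨w₁, rfl⟩ := QuotientGroup.mk_surjective q₀
  have hgenQ : ∀ q : W ⧸ N, q ∈ Subgroup.zpowers (w₁ : W ⧸ N) := fun q =>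
    mem_zpowers_of_prime_card hQ hq₀
  have hfixN : ∀ s ∈ S, ∀ v ∈ N, s v = v := by
    intro s hs v hv
    obtain ⟨i, rfl⟩ := Subgroup.mem_zpowers_iff.1 hv
    rw [map_zpow, hfix s hs]
  have hone : ∀ s ∈ S, (s w₁ : W ⧸ N) = (w₁ : W ⧸ N) → s = 1 := by
    intro s hs he
    set v := w₁⁻¹ * s w₁
    have hv : v ∈ N := QuotientGroup.eq.1 he.symm
    have hpow : ∀ k : ℕ, (s ^ k) w₁ = w₁ * v ^ k := by
      intro k
      induction k with
      | zero => simp
      | succ k ih =>
        rw [pow_succ', MulAut.mul_apply, ih, map_mul, map_pow, hfixN s hs v hv,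
          show s w₁ = w₁ * v by simp [v], mul_assoc, pow_succ']
    have hmem : ∀ (t : MulAut W), (∀ x ∈ N, t x = x) → t w₁ = w₁ → t = 1 := by
      intro t htN ht
      ext w
      obtain ⟨i, hi⟩ := Subgroup.mem_zpowers_iff.1 (hgenQ (w : W ⧸ N))
      rw [← QuotientGroup.mk_zpow] at hi
      have hN' := QuotientGroup.eq.1 hi
      have hw : w = w₁ ^ i * ((w₁ ^ i)⁻¹ * w) := (mul_inv_cancel_left _ _).symm
      rw [hw, map_mul, map_zpow, ht, htN _ hN', MulAut.one_apply]
    have hs3 : s ^ 3 = 1 := hmem _ (fun x hx => by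
      rw [pow_succ', pow_two, MulAut.mul_apply, MulAut.mul_apply, hfixN s hs x hx, hfixN s hs x hx,
        hfixN s hs x hx]) (by rw [hpow, hexp, mul_one])
    rcases (Nat.dvd_prime Nat.prime_three).1 (orderOf_dvd_of_pow_eq_one hs3) with h | h
    · exact orderOf_eq_one_iff.1 h
    · exact absurd (h ▸ Subgroup.orderOf_dvd_natCard S hs) hS
  let f : S → {q : W ⧸ N // q ≠ 1} := fun s => ⟨((s : MulAut W) w₁ : W ⧸ N), fun h => by
    apply hq₀
    rw [QuotientGroup.eq_one_iff] at h ⊢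
    have := hfixN _ (S.inv_mem s.2) _ h
    rw [← MulAut.mul_apply, inv_mul_cancel, MulAut.one_apply] at this
    rwa [← this] at h⟩
  have hf : Function.Injective f := fun s t e => by
    have he : ((s : MulAut W) w₁ : W ⧸ N) = ((t : MulAut W) w₁ : W ⧸ N) := congrArg Subtype.val e
    refine Subtype.ext (inv_mul_eq_one.1 (hone _ (S.mul_mem (S.inv_mem t.2) s.2) ?_)).symm
    refine (QuotientGroup.eq.2 ?_).symm
    have h1 := QuotientGroup.eq.1 he
    have h2 : ((t : MulAut W)⁻¹) (((s : MulAut W) w₁)⁻¹ * (t : MulAut W) w₁) =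
        ((s : MulAut W) w₁)⁻¹ * (t : MulAut W) w₁ := hfixN _ (S.inv_mem t.2) _ h1
    rw [map_mul, map_inv, ← MulAut.mul_apply, ← MulAut.mul_apply, inv_mul_cancel,
      MulAut.one_apply] at h2
    rw [← h2] at h1
    simpa [mul_comm] using N.inv_mem h1
  refine (Nat.card_le_card_of_injective f hf).trans ?_
  haveI := Fintype.ofFinite (W ⧸ N)
  rw [Nat.card_eq_fintype_card, Fintype.card_subtype_compl, Fintype.card_subtype_eq,
    ← Nat.card_eq_fintype_card, hQ]

/-- The case of eight automorphisms acting freely. -/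
theorem false_of_eight (E : Subgroup (MulAut W)) (hcard : Nat.card W = 3 ^ 2)
    (hE : Nat.card E = 8) (hfree : ∀ e ∈ E, ∀ w, w ≠ 1 → e w = w → e = 1)
    (hconj : ∀ e ∈ E, ∀ e' ∈ E, e ≠ 1 → e' ≠ 1 → GoodE E e → GoodE E e' →
      ∃ h ∈ E, h * e * h⁻¹ = e') : False := by
  classical
  have hinv : ∀ z ∈ E, z ≠ 1 → z * z = 1 → ∀ w, z w = w⁻¹ := fun z hz hz1 hz2 =>
    eq_inv_of_sq_of_fixed_eq_bot hz2 fun w hw => by_contra fun hw1 => hz1 (hfree z hz w hw1 hw)
  have huniq : ∀ a ∈ E, ∀ b ∈ E, a ≠ 1 → b ≠ 1 → a * a = 1 → b * b = 1 → a = b :=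
    fun a ha b hb ha1 hb1 ha2 hb2 => MulEquiv.ext fun w => by
      rw [hinv a ha ha1 ha2, hinv b hb hb1 hb2]
  haveI : Fact (Nat.Prime 2) := ⟨Nat.prime_two⟩
  obtain ⟨⟨z, hzE⟩, hz⟩ := exists_prime_orderOf_dvd_card' (G := E) 2 (by rw [hE]; norm_num)
  rw [Subgroup.orderOf_mk] at hz
  have hz1 : z ≠ 1 := fun h => by rw [h, orderOf_one] at hz; omega
  have hz2 : z * z = 1 := by rw [← sq, ← hz, pow_orderOf_eq_one]
  have hzin : ∀ g ∈ E, g ≠ 1 → z ∈ Subgroup.zpowers g := by
    intro g hg hg1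
    have hd : orderOf g ∣ 2 ^ 3 := by
      rw [show 2 ^ 3 = Nat.card E by rw [hE]; norm_num]
      exact Subgroup.orderOf_dvd_natCard E hg
    obtain ⟨j, -, hj⟩ := (Nat.dvd_prime_pow Nat.prime_two).1 hd
    obtain ⟨i, rfl⟩ : ∃ i, j = i + 1 := ⟨j - 1, by
      have : j ≠ 0 := fun h => hg1 (orderOf_eq_one_iff.1 (by rw [hj, h, pow_zero]))
      omega⟩
    have he : g ^ 2 ^ i = z := by
      refine huniq _ (E.pow_mem hg _) z hzE ?_ hz1 ?_ hz2
      · exact pow_ne_one_of_lt_orderOf (by positivity) (by rw [hj]; exact Nat.pow_lt_pow_right one_lt_two (by omega))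
      · rw [← pow_add, ← two_mul, ← pow_succ', ← hj, pow_orderOf_eq_one]
    exact he ▸ Subgroup.pow_mem _ (Subgroup.mem_zpowers g) _
  have hzgood : GoodE E z := fun h hh _ => by
    rcases eq_or_ne h 1 with rfl | h1
    · exact ⟨z, hzE, Subgroup.mem_zpowers z, Subgroup.one_mem _⟩
    · exact ⟨h, hh, hzin h hh h1, Subgroup.mem_zpowers h⟩
  obtain ⟨g, hgE, hg2⟩ : ∃ g ∈ E, g * g ≠ 1 := by
    by_contra hne
    push Not at hne
    have hle : E ≤ Subgroup.zpowers z := fun g hg => by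
      rcases eq_or_ne g 1 with rfl | h1
      · exact Subgroup.one_mem _
      · rw [huniq g hg z hzE h1 hz1 (hne g hg) hz2]; exact Subgroup.mem_zpowers z
    have := Subgroup.card_le_of_le hle
    rw [hE, Nat.card_zpowers, hz] at this
    omega
  have hg1 : g ≠ 1 := fun h => hg2 (by rw [h, mul_one])
  have hggood : GoodE E g := by
    intro h hh hcomm
    have hcyc : ∀ a ∈ E, orderOf a = 8 → ∀ b ∈ E, b ∈ Subgroup.zpowers a := by
      intro a ha ho b hb
      rwa [Subgroup.eq_of_le_of_card_ge (Subgroup.zpowers_le.2 ha)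
        (by rw [Nat.card_zpowers, ho, hE])]
    have hord : ∀ a ∈ E, a * a ≠ 1 → orderOf a = 4 ∨ orderOf a = 8 := by
      intro a ha ha2
      have hd : orderOf a ∣ 2 ^ 3 := by
        rw [show 2 ^ 3 = Nat.card E by rw [hE]; norm_num]
        exact Subgroup.orderOf_dvd_natCard E ha
      obtain ⟨j, hj3, hj⟩ := (Nat.dvd_prime_pow Nat.prime_two).1 hd
      interval_cases j
      · exact absurd (by rw [orderOf_eq_one_iff.1 hj, mul_one]) ha2
      · exact absurd (by rw [← sq, ← pow_one 2, ← hj, pow_orderOf_eq_one]) ha2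
      · exact Or.inl hj
      · exact Or.inr hj
    rcases hord g hgE hg2 with hg4 | hg8
    swap
    · exact ⟨g, hgE, Subgroup.mem_zpowers g, hcyc g hgE hg8 h hh⟩
    by_cases hh2 : h * h = 1
    · refine ⟨g, hgE, Subgroup.mem_zpowers g, ?_⟩
      rcases eq_or_ne h 1 with rfl | h1
      · exact Subgroup.one_mem _
      · rw [huniq h hh z hzE h1 hz1 hh2 hz2]; exact hzin g hgE hg1
    rcases hord h hh hh2 with hh4 | hh8
    swap
    · exact ⟨h, hh, hcyc h hh hh8 g hgE, Subgroup.mem_zpowers h⟩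
    have hsq : ∀ a ∈ E, orderOf a = 4 → a * a = z := fun a ha ho => by
      refine huniq _ (E.mul_mem ha ha) z hzE ?_ hz1 ?_ hz2
      · rw [← sq]; exact pow_ne_one_of_lt_orderOf two_ne_zero (by omega)
      · rw [show a * a * (a * a) = a ^ 4 by simp [pow_succ, mul_assoc], ← ho, pow_orderOf_eq_one]
    have hc : Commute h g⁻¹ := (show Commute h g from hcomm.symm).inv_right
    have h2 : (h * g⁻¹) * (h * g⁻¹) = 1 := by
      rw [hc.symm.mul_mul_mul_comm, hsq h hh hh4, ← mul_inv_rev, hsq g hgE hg4, mul_inv_cancel]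
    refine ⟨g, hgE, Subgroup.mem_zpowers g, ?_⟩
    have hm : h * g⁻¹ ∈ Subgroup.zpowers g := by
      rcases eq_or_ne (h * g⁻¹) 1 with e | e
      · rw [e]; exact Subgroup.one_mem _
      · rw [huniq _ (E.mul_mem hh (E.inv_mem hgE)) z hzE e hz1 h2 hz2]; exact hzin g hgE hg1
    simpa using Subgroup.mul_mem _ hm (Subgroup.mem_zpowers g)
  obtain ⟨h, -, hh⟩ := hconj z hzE g hgE hz1 hg1 hzgood hggood
  apply hg2
  rw [← hh, show h * z * h⁻¹ * (h * z * h⁻¹) = h * (z * z) * h⁻¹ by group, hz2, mul_one,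
    mul_inv_cancel]

/-- **No such group.** -/
theorem false_of_constraints (hexp : ∀ w : W, w ^ p = 1) (hcard : Nat.card W = p ^ n) (hn : 2 ≤ n)
    (E : Subgroup (MulAut W)) (hE : ¬ p ∣ Nat.card E) {m x y : ℕ} (hx : 0 < x) (hy : 0 < y)
    (hEcard : Nat.card E = m ^ 2 * (p ^ n - 1)) (hxy : x ^ 2 + y ^ 2 = p ^ n - 1)
    (hstab : ∀ w : W, w ≠ 1 → Nat.card (E ⊓ MulAction.stabilizer (MulAut W) w : Subgroup _) = m ^ 2)
    (hconj : ∀ e ∈ E, ∀ e' ∈ E, e ≠ 1 → e' ≠ 1 → GoodE E e → GoodE E e' →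
      ∃ h ∈ E, h * e * h⁻¹ = e')
    (hval : ∀ g ∈ E, g ≠ 1 → GoodE E g → ∀ a, a = m * x ∨ a = m * y → ∃ u : ℤ,
      (a : ℤ) ^ 2 * Nat.card (E ⊓ Subgroup.centralizer {g} : Subgroup _) + Nat.card E * u =
        Nat.card E * Nat.card (E ⊓ Subgroup.centralizer {g} : Subgroup _)) : False := by
  classical
  have hpow : 2 ≤ p ^ n - 1 := by
    have h1 := Nat.pow_le_pow_left hp.out.two_le n
    have h2 := Nat.pow_le_pow_right two_pos hn
    omega
  have hm0 : m ≠ 0 := fun h => by
    rw [h] at hEcard; simp at hEcard; exact Nat.card_pos.ne' hEcard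
  rcases eq_or_ne p 2 with rfl | hp2
  · exact two_pow_sub_one_ne hn x y hxy
  by_cases hmers : n = 2 ∧ ∃ a, p + 1 = 2 ^ a
  · obtain ⟨rfl, a, ha⟩ := hmers
    rcases Nat.lt_or_ge a 3 with h3 | h3
    swap
    · exact mersenne_sq_sub_one_ne h3 ha x y hxy
    obtain rfl : p = 3 := by
      have := hp.out.two_le
      interval_cases a <;> omega
    obtain ⟨w₀, hw₀⟩ : ∃ w : W, w ≠ 1 := by
      haveI : Nontrivial W := Finite.one_lt_card_iff_nontrivial.1 (by rw [hcard]; norm_num)
      exact exists_ne 1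
    have hm1 : m = 1 := by
      have h := card_stab_le_two hexp hcard (E ⊓ MulAction.stabilizer (MulAut W) w₀)
        (fun h => hE (h.trans (Subgroup.card_dvd_of_le inf_le_left))) hw₀ fun s hs => hs.2
      rw [hstab w₀ hw₀] at h
      nlinarith [Nat.pos_of_ne_zero hm0]
    refine false_of_eight E hcard (by rw [hEcard, hm1]; norm_num) (fun e he w hw hew => ?_) hconj
    have h1 := hstab w hw
    rw [hm1, one_pow] at h1
    have := Subgroup.eq_bot_of_card_eq _ h1
    exact (Subgroup.eq_bot_iff_forall _).1 this e ⟨he, hew⟩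
  obtain ⟨r, hr⟩ := exists_isPPD hp.out.one_lt hn (fun h => hp2 h.1)
    (fun h => hmers ⟨h.1, h.2⟩)
  haveI : Fact r.Prime := ⟨hr.1⟩
  have hqE : p ^ n - 1 ∣ Nat.card E := Dvd.intro_left _ hEcard.symm
  have helem : ∀ s, IsPPD s p n → ∃ g ∈ E, orderOf g = s := fun s hs => by
    haveI : Fact s.Prime := ⟨hs.1⟩
    obtain ⟨⟨g, hgE⟩, hg⟩ := exists_prime_orderOf_dvd_card' (G := E) s (hs.2.1.trans hqE)
    exact ⟨g, hgE, by rwa [Subgroup.orderOf_mk] at hg⟩
  have hcyc : ∀ s, IsPPD s p n → ∀ g : MulAut W, orderOf g = s →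
      IsCyclic (E ⊓ Subgroup.centralizer {g} : Subgroup _) := fun s hs g hg =>
    (cent_and_conj hexp hcard (by omega) hs hg).1 _ fun c hc =>
      Subgroup.mem_centralizer_singleton_iff.1 hc.2
  obtain ⟨g, hgE, hg⟩ := helem r hr
  have hg1 : g ≠ 1 := fun h => hr.1.ne_one (by rw [← hg, h, orderOf_one])
  have hgood : GoodE E g := goodE_of_cyclic hgE (hcyc r hr g hg)
  set Cg : Subgroup (MulAut W) := E ⊓ Subgroup.centralizer {g} with hCg
  have hgC : g ∈ Cg := ⟨hgE, Subgroup.mem_centralizer_singleton_iff.2 rfl⟩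
  -- the centraliser is the subgroup generated by `g`
  have hC : Nat.card Cg = r ∧ ∀ c ∈ Cg, c ∈ Subgroup.zpowers g := by
    haveI := hcyc r hr g hg
    obtain ⟨⟨z, hz⟩, hgen⟩ := IsCyclic.exists_generator (α := Cg)
    have hmem : ∀ a ∈ Cg, a ∈ Subgroup.zpowers z := fun a ha => by
      obtain ⟨i, hi⟩ := Subgroup.mem_zpowers_iff.1 (hgen ⟨a, ha⟩)
      exact Subgroup.mem_zpowers_iff.2 ⟨i, by simpa using congrArg Subtype.val hi⟩
    have hcard' : Nat.card Cg = orderOf z := by
      rw [← Nat.card_zpowers]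
      exact le_antisymm (Subgroup.card_le_of_le hmem) (Subgroup.card_le_of_le (Subgroup.zpowers_le.2 hz))
    have hz1 : z ≠ 1 := fun h => hg1 (by simpa [h] using hmem g hgC)
    have hzgood : GoodE E z := by
      intro h hh hzh
      have hgh : h ∈ Cg := by
        obtain ⟨i, hi⟩ := Subgroup.mem_zpowers_iff.1 (hmem g hgC)
        refine ⟨hh, Subgroup.mem_centralizer_singleton_iff.2 ?_⟩
        rw [← hi]
        exact ((show Commute z h from hzh).zpow_left i).symm.eq
      exact ⟨z, hz.1, Subgroup.mem_zpowers z, hmem h hgh⟩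
    obtain ⟨h, -, hh⟩ := hconj z hz.1 g hgE hz1 hg1 hzgood hgood
    have hord : orderOf z = r := by
      rw [← hg, ← hh]; exact ((MulAut.conj h).orderOf_eq z).symm
    refine ⟨hcard'.trans hord, ?_⟩
    rw [← Subgroup.eq_of_le_of_card_ge (Subgroup.zpowers_le.2 hgC)
      (by rw [Nat.card_zpowers, hg, hcard', hord])]
    exact fun c hc => hc
  have hr2 : r ≠ 2 := fun h => by
    refine hr.2.2 1 one_pos (by omega) ?_
    rw [h, pow_one]
    obtain ⟨t, ht⟩ := hp.out.odd_of_ne_two hp2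
    omega
  -- its powers are conjugate
  have hn_eq : r = n + 1 := by
    have hle : r - 1 ≤ n := (cent_and_conj hexp hcard (by omega) hr hg).2 fun i hi => by
      have ho : orderOf (g ^ i) = r := by
        rw [Nat.Coprime.orderOf_pow, hg]
        rw [hg]; exact hr.1.coprime_iff_not_dvd.2 hi
      have h1 : g ^ i ≠ 1 := fun h => hr.1.ne_one (by rw [← ho, h, orderOf_one])
      obtain ⟨h, -, hh⟩ := hconj g hgE (g ^ i) (E.pow_mem hgE i) hg1 h1 hgood
        (goodE_of_cyclic (E.pow_mem hgE i) (hcyc r hr _ ho))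
      exact ⟨h, hh⟩
    have hdvd : n ∣ r - 1 := by
      rw [← hr.orderOf_eq hp.out.one_lt.le (by omega)]
      refine ZMod.orderOf_dvd_card_sub_one fun h0 => ?_
      rw [ZMod.natCast_eq_zero_iff] at h0
      have h3 := Nat.dvd_sub (dvd_pow h0 (show n ≠ 0 by omega)) hr.2.1
      rw [Nat.sub_sub_self (Nat.one_le_pow _ _ hp.out.pos)] at h3
      exact hr.1.not_dvd_one h3
    have := hr.1.two_le
    have := Nat.le_of_dvd (by omega) hdvd
    omega
  have hppd : ∀ s, IsPPD s p n → s = r := fun s hs => by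
    obtain ⟨g', hg'E, hg'⟩ := helem s hs
    have h1 : g' ≠ 1 := fun h => hs.1.ne_one (by rw [← hg', h, orderOf_one])
    obtain ⟨h, -, hh⟩ := hconj g hgE g' hg'E hg1 h1 hgood (goodE_of_cyclic hg'E (hcyc s hs g' hg'))
    rw [← hg', ← hg, ← hh]
    exact (MulAut.conj h).orderOf_eq g
  have hsq : ¬ r ^ 2 ∣ Nat.card E := by
    intro h
    have hZ : IsPGroup r (Subgroup.zpowers (⟨g, hgE⟩ : E)) :=
      IsPGroup.of_card (n := 1) (by rw [Nat.card_zpowers, Subgroup.orderOf_mk, hg, pow_one])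
    obtain ⟨P, hP⟩ := hZ.exists_le_sylow
    have hgP : (⟨g, hgE⟩ : E) ∈ (P : Subgroup E) := hP (Subgroup.mem_zpowers _)
    have h2 : r ^ 2 ∣ Nat.card P := P.pow_dvd_card_of_pow_dvd_card h
    haveI : Nontrivial P := Finite.one_lt_card_iff_nontrivial.1 (by
      have := Nat.le_of_dvd Nat.card_pos h2
      nlinarith [hr.1.two_le])
    haveI := P.isPGroup'.center_nontrivial
    obtain ⟨c, hc⟩ := exists_prime_orderOf_dvd_card' (G := Subgroup.center P) r
      (P.isPGroup'.to_subgroup (Subgroup.center P) |>.card_eq_or_dvd.resolve_left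
        (Finite.one_lt_card.ne'))
    have hcomm : ∀ a : P, a * (c : P) = (c : P) * a := fun a => Subgroup.mem_center_iff.1 c.2 a
    set c' : MulAut W := (((c : P) : E) : MulAut W) with hc'
    have hcC : c' ∈ Cg := ⟨((c : P) : E).2, Subgroup.mem_centralizer_singleton_iff.2
      (congrArg (fun a : P => ((a : E) : MulAut W)) (hcomm ⟨_, hgP⟩)).symm⟩
    have hoc : orderOf c' = r := by
      rw [hc', Subgroup.orderOf_coe, Subgroup.orderOf_coe, Subgroup.orderOf_coe, hc]
    have hgc : g ∈ Subgroup.zpowers c' := by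
      rw [Subgroup.eq_of_le_of_card_ge (Subgroup.zpowers_le.2 hcC)
        (by rw [Nat.card_zpowers, hoc, hC.1])]
      exact hgC
    have hPC : ∀ a : P, ((a : E) : MulAut W) ∈ Cg := fun a => by
      refine ⟨(a : E).2, Subgroup.mem_centralizer_singleton_iff.2 ?_⟩
      obtain ⟨i, hi⟩ := Subgroup.mem_zpowers_iff.1 hgc
      rw [← hi]
      exact ((show Commute ((a : E) : MulAut W) c' from
        congrArg (fun a : P => ((a : E) : MulAut W)) (hcomm a)).zpow_right i).eq
    have hle : Nat.card P ≤ Nat.card Cg := Nat.card_le_card_of_injective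
      (fun a : P => (⟨_, hPC a⟩ : Cg))
      fun a b e => Subtype.ext (Subtype.ext (congrArg (fun d : Cg => (d : MulAut W)) e))
    rw [hC.1] at hle
    have := Nat.le_of_dvd Nat.card_pos h2
    nlinarith [hr.1.two_le]
  -- the two degrees
  have hdiv : ∀ a, a = x ∨ a = y → p ^ n - 1 ∣ a ^ 2 * r := by
    intro a ha
    obtain ⟨u, hu⟩ := hval g hgE hg1 hgood (m * a) (by rcases ha with rfl | rfl <;> simp)
    rw [hC.1, hEcard] at hu
    push_cast at hu
    have hm : ((m : ℤ)) ^ 2 ≠ 0 := by positivity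
    have h1 : ((a : ℤ)) ^ 2 * r = ((p ^ n - 1 : ℕ) : ℤ) * ((r : ℤ) - u) := by
      refine mul_left_cancel₀ hm ?_
      linear_combination hu
    exact Int.natCast_dvd_natCast.1 ⟨(r : ℤ) - u, by push_cast; exact h1⟩
  obtain ⟨g0, x', y', hg0, hcop, rfl, rfl⟩ :=
    Nat.exists_coprime' (Nat.gcd_pos_of_pos_left y hx : 0 < Nat.gcd x y)
  set t := x' ^ 2 + y' ^ 2
  have hqt : p ^ n - 1 = t * g0 ^ 2 := by rw [← hxy]; ring
  have ht : t ∣ r := by
    have h1 := hdiv _ (Or.inl rfl)
    rw [hqt, show (x' * g0) ^ 2 * r = (x' ^ 2 * r) * g0 ^ 2 by ring] at h1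
    refine Nat.Coprime.dvd_of_dvd_mul_left ?_ (Nat.dvd_of_mul_dvd_mul_right (by positivity) h1)
    show Nat.Coprime (x' ^ 2 + y' ^ 2) (x' ^ 2)
    rw [Nat.coprime_comm, Nat.coprime_self_add_right]
    exact (hcop.pow 2 2)
  have hx' : 0 < x' := Nat.pos_of_mul_pos_right hx
  have hy' : 0 < y' := Nat.pos_of_mul_pos_right hy
  have htr : t = r := by
    rcases (Nat.dvd_prime hr.1).1 ht with h | h
    · have : 2 ≤ t := by
        show 2 ≤ x' ^ 2 + y' ^ 2
        nlinarith
      omega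
    · exact h
  rw [htr] at hqt
  have hrg : ¬ r ∣ g0 := fun h => hsq (by
    refine Dvd.dvd.trans ?_ hqE
    rw [hqt]
    exact (pow_dvd_pow_of_dvd h 2).mul_left r)
  obtain ⟨rfl, rfl⟩ := eq_three_four hp.out hp2 hr hn_eq
    (prime_mod_four_of_eq_sq_add_sq hr.1 hr2 htr) hqt hrg hppd
  -- the case `3 ^ 4`
  haveI : Fact (Nat.Prime 2) := ⟨Nat.prime_two⟩
  let P : Sylow 2 E := default
  have hEc : Nat.card E = m ^ 2 * 80 := by rw [hEcard]; norm_num
  set v := (m ^ 2).factorization 2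
  have hPc : Nat.card P = 2 ^ (v + 4) := by
    rw [P.card_eq_multiplicity, hEc, Nat.factorization_mul (by positivity) (by norm_num),
      Finsupp.add_apply, show (80 : ℕ) = 2 ^ 4 * 5 by norm_num,
      Nat.factorization_mul (by norm_num) (by norm_num), Finsupp.add_apply,
      Nat.prime_two.factorization_pow, Finsupp.single_eq_same,
      Nat.factorization_eq_zero_of_not_dvd (show ¬ 2 ∣ 5 by norm_num)]
  haveI : Nontrivial P := Finite.one_lt_card_iff_nontrivial.1 (by
    rw [hPc]; exact Nat.one_lt_pow (by omega) one_lt_two)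
  haveI := P.isPGroup'.center_nontrivial
  obtain ⟨c, hc⟩ := exists_prime_orderOf_dvd_card' (G := Subgroup.center P) 2
    (P.isPGroup'.to_subgroup (Subgroup.center P) |>.card_eq_or_dvd.resolve_left
      (Finite.one_lt_card.ne'))
  set z : MulAut W := (((c : P) : E) : MulAut W) with hzdef
  have hoz : orderOf z = 2 := by
    rw [hzdef, Subgroup.orderOf_coe, Subgroup.orderOf_coe, Subgroup.orderOf_coe, hc]
  set F := fixedBy' z
  have hFP : ∀ (a : P) (w : W), w ∈ F → ((a : E) : MulAut W) w ∈ F := by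
    intro a w hw
    show z (((a : E) : MulAut W) w) = _
    have h := congrArg (fun b : P => ((b : E) : MulAut W)) (Subgroup.mem_center_iff.1 c.2 a)
    change ((a : E) : MulAut W) * z = z * ((a : E) : MulAut W) at h
    rw [← MulAut.mul_apply, ← h, MulAut.mul_apply, show z w = w from hw]
  let X := {w : W // w ∈ F ∧ w ≠ 1}
  let act : MulAction P X :=
    { smul := fun a w => ⟨((a : E) : MulAut W) w.1, hFP a w.1 w.2.1, fun h =>
        w.2.2 (by simpa using congrArg ((a : E) : MulAut W).symm h)⟩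
      one_smul := fun w => Subtype.ext rfl
      mul_smul := fun a b w => Subtype.ext rfl }
  have h16 : 16 ∣ Nat.card X := by
    rw [Nat.card_congr (MulAction.selfEquivSigmaOrbits P X)]
    haveI := Fintype.ofFinite (MulAction.orbitRel.Quotient P X)
    rw [Nat.card_sigma]
    refine Finset.dvd_sum fun ω _ => ?_
    rw [Nat.card_coe_set_eq, ← MulAction.index_stabilizer P ω.out]
    set S := MulAction.stabilizer P ω.out
    have hS1 : Nat.card S ∣ m ^ 2 := by
      rw [← hstab ω.out.1 ω.out.2.2]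
      let K : Subgroup (MulAut W) := E ⊓ MulAction.stabilizer (MulAut W) ω.out.1
      let f : S →* K :=
        { toFun := fun a => ⟨(((a : P) : E) : MulAut W), ((a : P) : E).2,
            congrArg Subtype.val a.2⟩
          map_one' := rfl
          map_mul' := fun _ _ => rfl }
      exact Subgroup.card_dvd_of_injective f fun a b e =>
        Subtype.ext (Subtype.ext (Subtype.ext (congrArg (fun d : K => (d : MulAut W)) e)))
    obtain ⟨i, hi⟩ := (P.isPGroup'.to_subgroup S).exists_card_eq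
    have hiv : i ≤ v := (Nat.prime_two.pow_dvd_iff_le_factorization (by positivity)).1 (hi ▸ hS1)
    have h := S.card_mul_index
    rw [hPc, hi, show v + 4 = i + (v - i + 4) by omega, pow_add] at h
    rw [Nat.eq_of_mul_eq_mul_left (by positivity) h, pow_add]
    exact Dvd.intro_left _ rfl
  obtain ⟨j, hj, hFj⟩ : ∃ j ≤ 4, Nat.card F = 3 ^ j :=
    (Nat.dvd_prime_pow hp.out).1 (hcard ▸ F.card_subgroup_dvd_card)
  have hX : Nat.card X + 1 = Nat.card F := by
    haveI : Fintype F := Fintype.ofFinite F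
    let e : X ≃ {w : F // w ≠ 1} :=
      ⟨fun w => ⟨⟨w.1, w.2.1⟩, fun h => w.2.2 (congrArg Subtype.val h)⟩,
        fun w => ⟨w.1.1, w.1.2, fun h => w.2 (Subtype.ext h)⟩, fun _ => rfl, fun _ => rfl⟩
    rw [Nat.card_congr e, Nat.card_eq_fintype_card, Fintype.card_subtype_compl,
      Fintype.card_subtype_eq, ← Nat.card_eq_fintype_card]
    have := Nat.card_pos (α := F)
    omega
  obtain ⟨d, hd⟩ := h16
  rw [hFj, hd] at hX
  interval_cases j
  · have hbot := Subgroup.eq_bot_of_card_eq F (by rw [hFj, pow_zero])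
    have hzinv := eq_inv_of_sq_of_fixed_eq_bot (z := z) (by rw [← sq, ← hoz, pow_orderOf_eq_one])
      fun w hw => (Subgroup.eq_bot_iff_forall F).1 hbot w hw
    have hzC : z ∈ Cg := ⟨((c : P) : E).2, Subgroup.mem_centralizer_singleton_iff.2
      (MulEquiv.ext fun w => by rw [MulAut.mul_apply, MulAut.mul_apply, hzinv, hzinv, map_inv])⟩
    have h2 := Subgroup.orderOf_dvd_natCard Cg hzC
    rw [hoz, hC.1] at h2
    exact hr2 ((Nat.prime_dvd_prime_iff_eq Nat.prime_two hr.1).1 h2).symm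
  · omega
  · omega
  · omega
  · have hF : F = ⊤ := Subgroup.eq_top_of_card_eq F (hFj.trans hcard.symm)
    have : z = 1 := MulEquiv.ext fun w => (hF ▸ Subgroup.mem_top w : w ∈ F)
    rw [this, orderOf_one] at hoz
    omega

end CfsgLib.ThreeBlock9
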