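import Cfsg.Agent.Lib.ThreeBlock9.Local
import Cfsg.Agent.Lib.ThreeBlock9.Group
import Cfsg.Agent.S4648

/-!
# A normal elementary abelian defect group of rank at least two gives four characters
-/

set_option autoImplicit false
set_option linter.unusedSectionVars false
set_option linter.style.haveILetI false

noncomputable section

namespace CfsgLib.ThreeBlock9

open Cfsg CfsgLib.Characters CfsgLib.RelMcKay

universe u

variable {G : Type u} [Group G] [Fintype G] {p : ℕ} [hp : Fact p.Prime] {M : Ideal AlgInt}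

local instance fintypeSubCore (K : Subgroup G) : Fintype K := Fintype.ofFinite K

theorem four_le_card {α : Type*} [Finite α] {S : Set α} {a b c d : α} (ha : a ∈ S) (hb : b ∈ S)
    (hc : c ∈ S) (hd : d ∈ S) (hab : a ≠ b) (hac : a ≠ c) (had : a ≠ d) (hbc : b ≠ c) (hbd : b ≠ d)
    (hcd : c ≠ d) : 4 ≤ Nat.card S := by
  have hf : Function.Injective ![(⟨a, ha⟩ : S), ⟨b, hb⟩, ⟨c, hc⟩, ⟨d, hd⟩] := by
    intro i j
    fin_cases i <;> fin_cases j <;>
      simp [Subtype.ext_iff, hab, hac, had, hbc, hbd, hcd, hab.symm, hac.symm, had.symm, hbc.symm,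
        hbd.symm, hcd.symm]
  simpa using Nat.card_le_card_of_injective _ hf

/-- The fibres of a map are cosets. -/
theorem card_range_mul {H : Type*} [Group H] {β : Type*} (f : H → β) (K : Subgroup H)
    (hf : ∀ a b, f a = f b ↔ a⁻¹ * b ∈ K) : Nat.card (Set.range f) * Nat.card K = Nat.card H := by
  rw [K.card_eq_card_quotient_mul_card_subgroup]
  congr 1
  refine (Nat.card_congr (Equiv.ofBijective
    (Quotient.lift (fun a => (⟨f a, a, rfl⟩ : Set.range f))
      fun a b h => Subtype.ext ((hf a b).2 (QuotientGroup.leftRel_apply.1 h))) ⟨?_, ?_⟩)).symm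
  · intro x y h
    induction x using Quotient.inductionOn with
    | h a =>
      induction y using Quotient.inductionOn with
      | h b => exact Quotient.sound (QuotientGroup.leftRel_apply.2 ((hf a b).1 (congrArg Subtype.val h)))
  · rintro ⟨_, a, rfl⟩
    exact ⟨Quotient.mk _ a, rfl⟩

/-- A preimage is a union of cosets of the kernel. -/
theorem card_preimage {T β : Type*} [Group T] [Group β] (f : T →* β) (O : Set β)
    (hO : ∀ o ∈ O, ∃ t, f t = o) : Nat.card {t : T // f t ∈ O} = Nat.card O * Nat.card f.ker := by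
  rw [← Nat.card_prod]
  choose s hs using hO
  refine Nat.card_congr
    { toFun := fun t => (⟨f t.1, t.2⟩, ⟨(s _ t.2)⁻¹ * t.1, by
        rw [MonoidHom.mem_ker, map_mul, map_inv, hs, inv_mul_cancel]⟩)
      invFun := fun ok => ⟨s _ ok.1.2 * ok.2.1, by
        rw [map_mul, MonoidHom.mem_ker.1 ok.2.2, mul_one, hs]; exact ok.1.2⟩
      left_inv := fun t => Subtype.ext (mul_inv_cancel_left _ _)
      right_inv := ?_ }
  rintro ⟨⟨o, ho⟩, k, hk⟩
  have h : f (s o ho * k) = o := by rw [map_mul, MonoidHom.mem_ker.1 hk, mul_one, hs]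
  refine Prod.ext (Subtype.ext h) (Subtype.ext ?_)
  simp only [h, inv_mul_cancel_left]

section Dual

variable (V : Subgroup G) [V.Normal]

/-- `G` permuting the linear characters of `V`. -/
def dualAct : G →* MulAut (V →* ℂˣ) where
  toFun g :=
    { toFun := fun ζ => ζ.comp (MulAut.conjNormal g⁻¹).toMonoidHom
      invFun := fun ζ => ζ.comp (MulAut.conjNormal g).toMonoidHom
      left_inv := fun ζ => MonoidHom.ext fun u => congrArg ζ (Subtype.ext (by
        simp))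
      right_inv := fun ζ => MonoidHom.ext fun u => congrArg ζ (Subtype.ext (by
        simp))
      map_mul' := fun _ _ => rfl }
  map_one' := MulEquiv.ext fun ζ => MonoidHom.ext fun u => congrArg ζ (Subtype.ext (by simp))
  map_mul' g h := MulEquiv.ext fun ζ => MonoidHom.ext fun u => congrArg ζ (Subtype.ext (by
    simp))

theorem dualAct_apply (g : G) (ζ : V →* ℂˣ) (u : V) :
    dualAct V g ζ u = ζ (MulAut.conjNormal g⁻¹ u) := rfl

theorem dualAct_eq_iff (g : G) (ζ ζ' : V →* ℂˣ) :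
    dualAct V g ζ' = ζ ↔
      ∀ u : V, ζ ⟨g * u * g⁻¹, (inferInstance : V.Normal).conj_mem u u.2 g⟩ = ζ' u := by
  have key : ∀ u : V, (⟨g * u * g⁻¹, (inferInstance : V.Normal).conj_mem u u.2 g⟩ : V) =
      MulAut.conjNormal g u := fun u => Subtype.ext (by simp)
  constructor
  · intro h u
    rw [← h, dualAct_apply, key]
    exact congrArg ζ' (Subtype.ext (by simp))
  · intro h
    refine MonoidHom.ext fun u => ?_
    rw [dualAct_apply, ← h, key]
    exact congrArg ζ (Subtype.ext (by simp))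

theorem exists_dual_ne_one (hab : ∀ x ∈ V, ∀ y ∈ V, x * y = y * x) {u : V} (hu : u ≠ 1) :
    ∃ ζ : V →* ℂˣ, ζ u ≠ 1 := by
  letI : CommGroup V :=
    { (inferInstance : Group V) with
      mul_comm := fun a b => Subtype.ext (hab a a.2 b b.2) }
  exact CommGroup.exists_apply_ne_one_of_hasEnoughRootsOfUnity V ℂ hu

theorem card_dual (hab : ∀ x ∈ V, ∀ y ∈ V, x * y = y * x) :
    Nat.card (V →* ℂˣ) = Nat.card V := by
  letI : CommGroup V :=
    { (inferInstance : Group V) with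
      mul_comm := fun a b => Subtype.ext (hab a a.2 b b.2) }
  exact CommGroup.card_monoidHom_of_hasEnoughRootsOfUnity V ℂ

theorem dualAct_ker (hab : ∀ x ∈ V, ∀ y ∈ V, x * y = y * x) : (dualAct V).ker = CV V := by
  classical
  ext g
  constructor
  · intro hg
    refine Subgroup.mem_centralizer_iff.2 fun x hx => ?_
    by_contra hne
    have hu : MulAut.conjNormal g (⟨x, hx⟩ : V) * (⟨x, hx⟩ : V)⁻¹ ≠ 1 := fun h => by
      apply hne
      have h' := congrArg Subtype.val (mul_inv_eq_one.1 h)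
      rw [MulAut.conjNormal_apply] at h'
      exact (mul_inv_eq_iff_eq_mul.1 h').symm
    obtain ⟨ζ, hζ⟩ := exists_dual_ne_one V hab hu
    apply hζ
    have h := (dualAct_eq_iff V g ζ ζ).1 (by rw [MonoidHom.mem_ker.1 hg]; rfl) ⟨x, hx⟩
    rw [map_mul, map_inv, mul_inv_eq_one, ← h]
    exact congrArg ζ (Subtype.ext (by simp))
  · intro hg
    refine MonoidHom.mem_ker.2 (MulEquiv.ext fun ζ => MonoidHom.ext fun u =>
      congrArg ζ (Subtype.ext ?_))
    show ((MulAut.conjNormal g⁻¹ u : V) : G) = u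
    rw [MulAut.conjNormal_apply,
      ← Subgroup.mem_centralizer_iff.1 ((CV V).inv_mem hg) u u.2, mul_assoc, inv_inv,
      inv_mul_cancel, mul_one]

end Dual

/-- The automorphisms act on the linear characters. -/
local instance dualMulAction (V : Subgroup G) : MulAction (MulAut (V →* ℂˣ)) (V →* ℂˣ) where
  smul e ζ := e ζ
  one_smul _ := rfl
  mul_smul _ _ _ := rfl

/-- **Four characters.** -/
theorem four_le_card_block (hM : IsPModular p M) {B : Set (IrrCharacter G)} (hB : IsPBlock M B)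
    {V : Subgroup G} [V.Normal] (hD : IsDefectGroup p M B V)
    (hab : ∀ x ∈ V, ∀ y ∈ V, x * y = y * x) (hexp : ∀ x ∈ V, x ^ p = 1) {n : ℕ}
    (hcard : Nat.card V = p ^ n) (hn : 2 ≤ n) : 4 ≤ Nat.card B := by
  classical
  by_contra hlt
  push Not at hlt
  obtain ⟨C⟩ := exists_ctx hM hB hD hab
  have h4 : ∀ {a b c d : IrrCharacter G}, a ∈ B → b ∈ B → c ∈ B → d ∈ B →
      a ≠ b → a ≠ c → a ≠ d → b ≠ c → b ≠ d → c ≠ d → False :=
    fun ha hb hc hd e1 e2 e3 e4 e5 e6 => by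
      have := four_le_card ha hb hc hd e1 e2 e3 e4 e5 e6
      omega
  -- the linear characters
  have hWcard : Nat.card (V →* ℂˣ) = p ^ n := (card_dual V hab).trans hcard
  haveI : Finite (V →* ℂˣ) := Nat.finite_of_card_ne_zero (hWcard ▸ (pow_pos hp.out.pos n).ne')
  have hq : 4 ≤ p ^ n := calc
    4 = 2 ^ 2 := by norm_num
    _ ≤ p ^ 2 := Nat.pow_le_pow_left hp.out.two_le 2
    _ ≤ p ^ n := Nat.pow_le_pow_right hp.out.pos hn
  have hWexp : ∀ ζ : V →* ℂˣ, ζ ^ p = 1 := fun ζ => MonoidHom.ext fun u => by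
    rw [MonoidHom.pow_apply, ← map_pow, show u ^ p = 1 from Subtype.ext (hexp u u.2), map_one,
      MonoidHom.one_apply]
  haveI : Nontrivial (V →* ℂˣ) := Finite.one_lt_card_iff_nontrivial.1 (by omega)
  obtain ⟨ζ₁, hζ₁⟩ : ∃ ζ : V →* ℂˣ, ζ ≠ 1 := exists_ne 1
  have hS : ∀ ζ, Nonempty (C.Sec ζ) := fun ζ => by
    obtain ⟨χ, hχ⟩ := exists_over (C.setting₀ ζ)
    exact ⟨⟨χ, hχ⟩⟩
  have hne : ∀ {ζ : V →* ℂˣ}, ζ ≠ 1 → ∀ (ψ : C.Sec ζ) (ψ' : C.Sec 1),
      C.ind ζ ψ ≠ C.ind 1 ψ' := by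
    intro ζ hζ ψ ψ' h
    obtain ⟨g, -, hg⟩ := C.conj_of_ind_eq h
    refine hζ (MonoidHom.ext fun w => ?_)
    have := hg ⟨g⁻¹ * w * g⁻¹⁻¹, (inferInstance : V.Normal).conj_mem w w.2 g⁻¹⟩
    rw [MonoidHom.one_apply] at this ⊢
    rw [← this]
    exact congrArg ζ (Subtype.ext (by simp [mul_assoc]))
  obtain ⟨ψ₁⟩ := hS ζ₁
  obtain ⟨X⟩ := hS 1
  -- one character over `θ`
  by_cases h1 : Nat.card (C.Sec 1) = 1
  · have hV1 : V ≠ ⊥ := fun h => by
      rw [h, Subgroup.card_bot] at hcard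
      omega
    obtain ⟨-, hVB, -⟩ :=
      Cfsg.Agent.S4648.result p M hM B hB V hD hV1 (C.blockRank_eq_one h1) (by omega)
    omega
  obtain ⟨Y, hYX⟩ : ∃ Y : C.Sec 1, Y ≠ X := by
    by_contra h
    push Not at h
    exact h1 (Nat.card_eq_one_iff_unique.2 ⟨⟨fun a b => (h a).trans (h b).symm⟩, ⟨X⟩⟩)
  have hYX' : C.ind 1 Y ≠ C.ind 1 X := fun h => hYX (C.ind_injective 1 h)
  have honly : ∀ Z : C.Sec 1, Z = X ∨ Z = Y := by
    intro Z
    by_contra h
    push Not at h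
    exact h4 (C.ind_mem 1 X) (C.ind_mem 1 Y) (C.ind_mem 1 Z) (C.ind_mem ζ₁ ψ₁) hYX'.symm
      (fun e => h.1 (C.ind_injective 1 e).symm) (hne hζ₁ ψ₁ X).symm
      (fun e => h.2 (C.ind_injective 1 e).symm) (hne hζ₁ ψ₁ Y).symm (hne hζ₁ ψ₁ Z).symm
  have hthird : ∀ {ζ : V →* ℂˣ}, ζ ≠ 1 → ∀ ψ : C.Sec ζ, C.ind ζ ψ = C.ind ζ₁ ψ₁ := by
    intro ζ hζ ψ
    by_contra h
    exact h4 (C.ind_mem 1 X) (C.ind_mem 1 Y) (C.ind_mem ζ₁ ψ₁) (C.ind_mem ζ ψ) hYX'.symm
      (hne hζ₁ ψ₁ X).symm (hne hζ ψ X).symm (hne hζ₁ ψ₁ Y).symm (hne hζ ψ Y).symm (Ne.symm h)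
  -- the group on the linear characters
  set f : G →* MulAut (V →* ℂˣ) := dualAct V with hf
  have hker : f.ker = CV V := dualAct_ker V hab
  set E := (C.T 1).map f with hE
  have hmapcard : ∀ K : Subgroup G, CV V ≤ K → Nat.card (K.map f) = (CV V).relIndex K := by
    intro K hK
    have h := Subgroup.relIndex_map_map f (⊥ : Subgroup G) K
    rwa [Subgroup.map_bot, Subgroup.relIndex_bot_left, bot_sup_eq, hker, sup_eq_left.2 hK] at h
  have hfone : ∀ {g : G}, g ∈ CV V ↔ f g = 1 := fun {g} => by rw [← hker, MonoidHom.mem_ker]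
  have hstabmap : ∀ ζ, E ⊓ MulAction.stabilizer (MulAut (V →* ℂˣ)) ζ = (C.T ζ).map f := by
    intro ζ
    ext e
    constructor
    · rintro ⟨⟨g, hg, rfl⟩, hs⟩
      exact ⟨g, C.mem_T.2 ⟨hg, (dualAct_eq_iff V g ζ ζ).1 hs⟩, rfl⟩
    · rintro ⟨g, hg, rfl⟩
      exact ⟨⟨g, C.T_le ζ hg, rfl⟩, (dualAct_eq_iff V g ζ ζ).2 (C.mem_T.1 hg).2⟩
  have hEcard₀ : Nat.card E = (CV V).relIndex (C.T 1) := hmapcard _ (C.cv_le 1)
  have horbit : ∀ ζ : V →* ℂˣ, ζ ≠ 1 →
      Nat.card E = (p ^ n - 1) * (CV V).relIndex (C.T ζ) := by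
    intro ζ hζ
    have horb : MulAction.orbit E ζ = ({1}ᶜ : Set (V →* ℂˣ)) := by
      ext ω
      constructor
      · rintro ⟨e, rfl⟩ h
        exact hζ ((e : MulAut (V →* ℂˣ)).injective (h.trans (map_one _).symm))
      · intro hω
        obtain ⟨ψ⟩ := hS ζ
        obtain ⟨ψ'⟩ := hS ω
        obtain ⟨g, hg, hgu⟩ := C.conj_of_ind_eq
          (ζ := ω) (ζ' := ζ) ((hthird hω ψ').trans (hthird hζ ψ).symm)
        exact ⟨⟨f g, g, hg, rfl⟩, (dualAct_eq_iff V g ω ζ).2 hgu⟩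
    have hncard : (MulAction.orbit E ζ).ncard = p ^ n - 1 := by
      rw [horb, Set.ncard_compl, Set.ncard_singleton, hWcard]
    have hst : Nat.card (MulAction.stabilizer E ζ) = (CV V).relIndex (C.T ζ) := by
      rw [← hmapcard _ (C.cv_le ζ), ← hstabmap ζ,
        ← Nat.card_congr (Subgroup.subgroupOfEquivOfLe
          (inf_le_left : E ⊓ MulAction.stabilizer (MulAut (V →* ℂˣ)) ζ ≤ E)).toEquiv]
      rw [show MulAction.stabilizer E ζ =
          (E ⊓ MulAction.stabilizer (MulAut (V →* ℂˣ)) ζ).subgroupOf E from Subgroup.ext fun e =>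
            ⟨fun h => ⟨e.2, h⟩, fun h => h.2⟩]
    rw [← hncard, ← hst, ← MulAction.index_stabilizer, mul_comm, Subgroup.card_mul_index]
  have hsub : ∀ {ζ : V →* ℂˣ}, ζ ≠ 1 → Subsingleton (C.Sec ζ) := fun hζ =>
    ⟨fun a b => C.ind_injective _ ((hthird hζ a).trans (hthird hζ b).symm)⟩
  -- multiplicities
  set m := ovMult (C.setting₀ ζ₁) ψ₁.1 with hm
  have hm2 : (CV V).relIndex (C.T ζ₁) = m ^ 2 := by
    rw [← sum_ovMult_sq (C.setting₀ ζ₁)]
    refine Finset.sum_eq_single_of_mem ψ₁.1 (Finset.mem_univ _) fun ξ _ hξ => ?_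
    haveI := hsub hζ₁
    rw [show ovMult (C.setting₀ ζ₁) ξ = 0 from by_contra fun h =>
      hξ (congrArg Subtype.val (Subsingleton.elim (⟨ξ, h⟩ : C.Sec ζ₁) ψ₁))]
    rfl
  have hfac : ∀ Z : C.Sec 1, ∃ x : ℕ, 0 < x ∧ ovMult (C.setting₀ 1) Z.1 = m * x := by
    intro Z
    have hsum := ovMult_eq_sum (C.setting₀ 1) (C.setting₀ ζ₁) (C.T_le ζ₁) Z.1
    rw [Finset.sum_eq_single_of_mem ψ₁.1 (Finset.mem_univ _) fun ξ _ hξ => by
      haveI := hsub hζ₁
      rw [show ovMult (C.setting₀ ζ₁) ξ = 0 from by_contra fun h =>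
        hξ (congrArg Subtype.val (Subsingleton.elim (⟨ξ, h⟩ : C.Sec ζ₁) ψ₁)), mul_zero],
      mul_comm] at hsum
    exact ⟨_, Nat.pos_of_ne_zero fun h => Z.2 (show ovMult (C.setting₀ 1) Z.1 = 0 by
      rw [hsum, h, mul_zero]), hsum⟩
  obtain ⟨x, hx, hxX⟩ := hfac X
  obtain ⟨y, hy, hyY⟩ := hfac Y
  have hsumsq : Nat.card E = (m * x) ^ 2 + (m * y) ^ 2 := by
    rw [hEcard₀, ← sum_ovMult_sq (C.setting₀ 1), ← hxX, ← hyY]
    refine Finset.sum_eq_add X.1 Y.1 (fun h => hYX (Subtype.ext h.symm)) (fun ξ _ hξ => ?_)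
      (fun h => absurd (Finset.mem_univ _) h) (fun h => absurd (Finset.mem_univ _) h)
    rw [show ovMult (C.setting₀ 1) ξ = 0 from by_contra fun h => by
      rcases honly ⟨ξ, h⟩ with e | e
      · exact hξ.1 (congrArg Subtype.val e)
      · exact hξ.2 (congrArg Subtype.val e)]
    rfl
  have hEcard : Nat.card E = m ^ 2 * (p ^ n - 1) := by rw [horbit ζ₁ hζ₁, hm2, mul_comm]
  have hm0 : 0 < m := Nat.pos_of_ne_zero ψ₁.2
  have hxy : x ^ 2 + y ^ 2 = p ^ n - 1 := by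
    refine Nat.eq_of_mul_eq_mul_left (pow_pos hm0 2) ?_
    rw [← hEcard, hsumsq]
    ring
  have hstab : ∀ ω : V →* ℂˣ, ω ≠ 1 →
      Nat.card (E ⊓ MulAction.stabilizer (MulAut (V →* ℂˣ)) ω : Subgroup _) = m ^ 2 := by
    intro ω hω
    rw [hstabmap ω, hmapcard _ (C.cv_le ω)]
    refine Nat.eq_of_mul_eq_mul_left (show 0 < p ^ n - 1 by omega) ?_
    rw [← horbit ω hω, hEcard, mul_comm]
  -- goodness
  have hcard2 : Nat.card {χ : IrrCharacter (C.T 1) //
      Over (Subgroup.inclusion (C.setting₀ 1).le) C.θ χ} ≤ 2 := by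
    have hg : Function.Surjective ![X, Y] := fun Z => by
      rcases honly Z with rfl | rfl
      · exact ⟨0, rfl⟩
      · exact ⟨1, rfl⟩
    simpa using Nat.card_le_card_of_surjective _ hg
  have hGood : ∀ {z : G}, z ∈ C.T 1 → GoodE E (f z) → Good C.θ (C.T 1) z := by
    intro z _ hz
    refine good_of_pair (C.setting₀ 1) fun a ha hza => ?_
    have hc : f z * f a = f a * f z := by
      have h1 := hfone.1 hza
      rwa [map_mul, map_mul, map_mul, map_inv, map_inv, mul_inv_eq_one,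
        mul_inv_eq_iff_eq_mul] at h1
    obtain ⟨_, ⟨w, hw, rfl⟩, hzw, haw⟩ := hz (f a) ⟨a, ha, rfl⟩ hc
    have hmem : ∀ {v : G}, f v ∈ Subgroup.zpowers (f w) → v ∈ CV V ⊔ Subgroup.zpowers w := by
      intro v hv
      obtain ⟨i, hi⟩ := Subgroup.mem_zpowers_iff.1 hv
      rw [show v = v * (w ^ i)⁻¹ * w ^ i by group]
      exact Subgroup.mul_mem _ (Subgroup.mem_sup_left (hfone.2 (by
        rw [map_mul, map_inv, map_zpow, hi, mul_inv_cancel])))
        (Subgroup.mem_sup_right (Subgroup.zpow_mem _ (Subgroup.mem_zpowers w) i))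
    exact ⟨w, hw, hmem hzw, hmem haw⟩
  have hnotK : ∀ {z : G}, f z ≠ 1 → z ∉ CV V := fun hz h => hz (hfone.1 h)
  have hconj : ∀ e ∈ E, ∀ e' ∈ E, e ≠ 1 → e' ≠ 1 → GoodE E e → GoodE E e' →
      ∃ h ∈ E, h * e * h⁻¹ = e' := by
    rintro _ ⟨a, ha, rfl⟩ _ ⟨b, hb, rfl⟩ ha1 hb1 hga hgb
    obtain ⟨z, hz, hzab⟩ := exists_conj_of_card_le_two (C.setting₀ 1) hcard2 ha hb (hnotK ha1)
      (hnotK hb1) (hGood ha hga) (hGood hb hgb)
    refine ⟨f z, ⟨z, hz, rfl⟩, mul_inv_eq_one.1 ?_⟩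
    have h1 := hfone.1 hzab
    simpa only [map_mul, map_inv] using h1
  have hval : ∀ g ∈ E, g ≠ 1 → GoodE E g → ∀ a, a = m * x ∨ a = m * y → ∃ u : ℤ,
      (a : ℤ) ^ 2 * Nat.card (E ⊓ Subgroup.centralizer {g} : Subgroup _) + Nat.card E * u =
        Nat.card E * Nat.card (E ⊓ Subgroup.centralizer {g} : Subgroup _) := by
    rintro _ ⟨z, hz, rfl⟩ hz1 hgz a ha
    obtain ⟨Z, hZ⟩ : ∃ Z : C.Sec 1, ovMult (C.setting₀ 1) Z.1 = a := by
      rcases ha with rfl | rfl
      · exact ⟨X, hxX⟩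
      · exact ⟨Y, hyY⟩
    obtain ⟨u, hu, -⟩ := exists_value (C.setting₀ 1) Z.2 hz
      (fun t ht htK hgt => exists_conj_of_card_le_two (C.setting₀ 1) hcard2 hz ht (hnotK hz1) htK
        (hGood hz hgz) hgt)
      (hnotK hz1) (CV V) le_rfl (C.cv_le 1) (fun t ht htK => absurd ht htK)
    rw [hZ] at hu
    set c := Nat.card (E ⊓ Subgroup.centralizer {f z} : Subgroup _)
    set P := {t : C.T 1 // ∃ w ∈ C.T 1, w * z * w⁻¹ * (t : G)⁻¹ ∈ CV V}
    set O : Set (MulAut (V →* ℂˣ)) :=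
      Set.range (fun h : E => (h : MulAut (V →* ℂˣ)) * f z * (h : MulAut (V →* ℂˣ))⁻¹) with hO
    have hOc : Nat.card O * c = Nat.card E := by
      rw [show c = Nat.card ((E ⊓ Subgroup.centralizer {f z}).subgroupOf E) from
        (Nat.card_congr (Subgroup.subgroupOfEquivOfLe inf_le_left).toEquiv).symm]
      refine card_range_mul _ _ fun h h' => ?_
      rw [Subgroup.mem_subgroupOf, Subgroup.mem_inf, Subgroup.mem_centralizer_singleton_iff,
        and_iff_right (h⁻¹ * h').2]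
      push_cast
      constructor
      · intro e
        calc (h : MulAut (V →* ℂˣ))⁻¹ * h' * f z
            = (h : MulAut (V →* ℂˣ))⁻¹ * ((h' : MulAut (V →* ℂˣ)) * f z *
                (h' : MulAut (V →* ℂˣ))⁻¹) * h' := by group
          _ = f z * ((h : MulAut (V →* ℂˣ))⁻¹ * h') := by rw [← e]; group
      · intro e
        calc (h : MulAut (V →* ℂˣ)) * f z * (h : MulAut (V →* ℂˣ))⁻¹
            = (h : MulAut (V →* ℂˣ)) * (f z * ((h : MulAut (V →* ℂˣ))⁻¹ * h')) *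
                (h' : MulAut (V →* ℂˣ))⁻¹ := by group
          _ = (h' : MulAut (V →* ℂˣ)) * f z * (h' : MulAut (V →* ℂˣ))⁻¹ := by rw [← e]; group
    have hmem : ∀ t : C.T 1, (∃ w ∈ C.T 1, w * z * w⁻¹ * (t : G)⁻¹ ∈ CV V) → f t ∈ O := by
      rintro t ⟨w, hw, hwt⟩
      refine ⟨⟨f w, w, hw, rfl⟩, mul_inv_eq_one.1 ?_⟩
      have h1 := hfone.1 hwt
      simpa only [map_mul, map_inv] using h1
    have hcount : Nat.card P = Nat.card O * Nat.card (CV V) := by
      have hk : Nat.card (f.comp (C.T 1).subtype).ker = Nat.card (CV V) := by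
        rw [← MonoidHom.comap_ker, hker]
        exact Nat.card_congr (Subgroup.subgroupOfEquivOfLe (C.cv_le 1)).toEquiv
      rw [← hk, ← card_preimage (f.comp (C.T 1).subtype) O (by
        rintro _ ⟨⟨_, w, hw, rfl⟩, rfl⟩
        exact ⟨⟨w * z * w⁻¹, (C.T 1).mul_mem ((C.T 1).mul_mem hw hz) ((C.T 1).inv_mem hw)⟩,
          by simp⟩)]
      refine Nat.card_congr (Equiv.subtypeEquivRight fun t => ⟨hmem t, ?_⟩)
      rintro ⟨⟨_, w, hw, rfl⟩, h⟩
      refine ⟨w, hw, hfone.2 ?_⟩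
      rw [map_mul, map_mul, map_mul, map_inv, map_inv, mul_inv_eq_one]
      exact h
    have hP : (Nat.card P : ℤ) * c = Nat.card (CV V) * Nat.card E := by
      rw [hcount]
      push_cast
      rw [← hOc]
      push_cast
      ring
    have hT : (Nat.card (C.T 1) : ℤ) = Nat.card (CV V) * Nat.card E := by
      rw [hEcard₀, ← Nat.cast_mul, ← Subgroup.relIndex_bot_left (CV V),
        ← Subgroup.relIndex_bot_left (C.T 1),
        Subgroup.relIndex_mul_relIndex _ _ _ bot_le (C.cv_le 1)]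
    refine ⟨u, mul_left_cancel₀ (Nat.cast_ne_zero.2 (Nat.card_pos (α := CV V)).ne' :
      (Nat.card (CV V) : ℤ) ≠ 0) ?_⟩
    linear_combination (c : ℤ) * hu - u * hP + (c : ℤ) * hT
  exact false_of_constraints hWexp hWcard hn E
    (fun h => C.not_dvd_relIndex 1 (hEcard₀ ▸ h)) hx hy hEcard hxy hstab hconj hval

end CfsgLib.ThreeBlock9
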