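import Cfsg.Agent.Lib.RelMcKay.GoodBasis

/-!
# Few characters over an invariant character

Multiplicities, goodness of elements generating cyclic subgroups with their centralisers, and the
averaged square of a character over an invariant one.
-/

set_option autoImplicit false
set_option linter.unusedSectionVars false
set_option linter.style.haveILetI false

noncomputable section

namespace CfsgLib.ThreeBlock9

open Cfsg CfsgLib.Characters CfsgLib.CharCorr CfsgLib.RelMcKay
open scoped ComplexConjugate Classical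

universe u

variable {G : Type u} [Group G] [Fintype G] {K T : Subgroup G} {η : IrrCharacter K}
  (S : InvSetting η T) [Fintype K] [Fintype T]

/-- The multiplicity of `η` in a character of `T`. -/
def ovMult (χ : IrrCharacter T) : ℕ := mult (Subgroup.inclusion S.le) χ η

theorem over_iff_ovMult (χ : IrrCharacter T) :
    Over (Subgroup.inclusion S.le) η χ ↔ ovMult S χ ≠ 0 := Iff.rfl

/-- `η` extended by zero to `T`. -/
def zeroExt (t : T) : ℂ := if h : (t : G) ∈ K then (η : K → ℂ) ⟨t, h⟩ else 0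

theorem isClassFunction_zeroExt (S : InvSetting η T) :
    IsClassFunction T (zeroExt (η := η) (T := T)) := by
  intro a b
  have hb := Subgroup.mem_normalizer_iff.1 (S.normalizes b.2) (a : G)
  by_cases h : (a : G) ∈ K
  · have h' : ((b * a * b⁻¹ : T) : G) ∈ K := by simpa using hb.1 h
    rw [zeroExt, zeroExt, dif_pos h, dif_pos h']
    exact S.inv b b.2 ⟨a, h⟩ ⟨_, h'⟩ (by simp)
  · have h' : ((b * a * b⁻¹ : T) : G) ∉ K := fun h' => h (hb.2 (by simpa using h'))
    rw [zeroExt, zeroExt, dif_neg h, dif_neg h']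

theorem sum_zeroExt_mul (S : InvSetting η T) (F : T → ℂ) :
    ∑ t : T, zeroExt (η := η) t * F t =
      ∑ k : K, (η : K → ℂ) k * F (Subgroup.inclusion S.le k) := by
  rw [← Finset.sum_subset (Finset.subset_univ (Finset.univ.filter fun t : T => (t : G) ∈ K))
    (fun t _ ht => by
      rw [Finset.mem_filter, not_and] at ht
      rw [zeroExt, dif_neg (ht (Finset.mem_univ _)), zero_mul])]
  refine Finset.sum_bij (fun t ht => ⟨(t : G), (Finset.mem_filter.1 ht).2⟩) ?_ ?_ ?_ ?_
  · exact fun _ _ => Finset.mem_univ _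
  · exact fun a _ b _ e => Subtype.ext (congrArg (fun z : K => (z : G)) e)
  · exact fun k _ => ⟨Subgroup.inclusion S.le k, Finset.mem_filter.2 ⟨Finset.mem_univ _, k.2⟩,
      Subtype.ext rfl⟩
  · intro t ht
    rw [zeroExt, dif_pos (Finset.mem_filter.1 ht).2]
    rfl

theorem classInner_zeroExt (χ : IrrCharacter T) :
    classInner (zeroExt (η := η)) (χ : T → ℂ) =
      (Nat.card K : ℂ) / Nat.card T * (ovMult S χ : ℂ) := by
  rw [classInner, sum_zeroExt_mul S]
  have h := mult_spec (Subgroup.inclusion S.le) χ η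
  have h2 := congrArg conj h
  rw [Complex.conj_natCast, classInner, map_mul, map_inv₀, Complex.conj_natCast, map_sum] at h2
  have hK : (Nat.card K : ℂ) ≠ 0 := Nat.cast_ne_zero.2 Nat.card_pos.ne'
  rw [ovMult, ← h2, div_mul_eq_mul_div, ← mul_assoc, mul_inv_cancel₀ hK, one_mul, div_eq_inv_mul]
  congr 1
  refine Finset.sum_congr rfl fun k _ => ?_
  rw [map_mul, Complex.conj_conj, Function.comp_apply, mul_comm]

theorem zeroExt_eq_sum :
    (zeroExt (η := η) (T := T)) =
      ∑ χ : IrrCharacter T, ((Nat.card K : ℂ) / Nat.card T * (ovMult S χ : ℂ)) • (χ : T → ℂ) := by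
  conv_lhs => rw [classFunction_eq_sum (isClassFunction_zeroExt S)]
  exact Finset.sum_congr rfl fun χ _ => by rw [classInner_zeroExt S]

/-- The squares of the multiplicities add up to the index. -/
theorem sum_ovMult_sq : ∑ χ : IrrCharacter T, ovMult S χ ^ 2 = K.relIndex T := by
  have hn : classInner (zeroExt (η := η) (T := T)) (zeroExt (η := η)) =
      (Nat.card K : ℂ) / Nat.card T := by
    rw [classInner, sum_zeroExt_mul S, div_eq_inv_mul]
    congr 1
    have h := classInner_irr_self η.2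
    rw [classInner, inv_mul_eq_iff_eq_mul₀ (Nat.cast_ne_zero.2 Nat.card_pos.ne'), mul_one] at h
    rw [← h]
    refine Finset.sum_congr rfl fun k _ => ?_
    rw [zeroExt, dif_pos (show ((Subgroup.inclusion S.le k : T) : G) ∈ K from k.2)]
    rfl
  nth_rw 1 [zeroExt_eq_sum S] at hn
  rw [classInner_sum_left] at hn
  have hterm : ∀ χ : IrrCharacter T,
      classInner (((Nat.card K : ℂ) / Nat.card T * (ovMult S χ : ℂ)) • (χ : T → ℂ))
        (zeroExt (η := η)) = ((Nat.card K : ℂ) / Nat.card T) ^ 2 * (ovMult S χ : ℂ) ^ 2 := by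
    intro χ
    rw [classInner_smul_left, classInner_conj_symm, classInner_zeroExt S, map_mul,
      Complex.conj_natCast, map_div₀, Complex.conj_natCast, Complex.conj_natCast]
    ring
  rw [Finset.sum_congr rfl fun χ _ => hterm χ, ← Finset.mul_sum] at hn
  have hK : (Nat.card K : ℂ) ≠ 0 := Nat.cast_ne_zero.2 Nat.card_pos.ne'
  have hT : (Nat.card T : ℂ) ≠ 0 := Nat.cast_ne_zero.2 Nat.card_pos.ne'
  have hcard : Nat.card K * K.relIndex T = Nat.card T := by
    rw [← Subgroup.relIndex_bot_left K, ← Subgroup.relIndex_bot_left T]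
    exact Subgroup.relIndex_mul_relIndex _ _ _ bot_le S.le
  apply Nat.cast_injective (R := ℂ)
  push_cast
  refine mul_left_cancel₀ hK ?_
  rw [← Nat.cast_mul, hcard]
  field_simp at hn
  linear_combination hn

theorem exists_over : ∃ χ : IrrCharacter T, Over (Subgroup.inclusion S.le) η χ := by
  by_contra h
  push Not at h
  have h1 := sum_ovMult_sq S
  rw [Finset.sum_eq_zero (fun χ _ => by
    rw [show ovMult S χ = 0 from not_not.1 (h χ)]; rfl)] at h1
  exact (K.subgroupOf T).index_ne_zero_of_finite h1.symm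

theorem degree_over {χ : IrrCharacter T} (h : Over (Subgroup.inclusion S.le) η χ) :
    charDegree (χ : T → ℂ) = ovMult S χ * charDegree (η : K → ℂ) := by
  have h1 := congrFun (S.res_eq h) 1
  rw [map_one, Pi.smul_apply, smul_eq_mul, irr_one_eq_charDegree, irr_one_eq_charDegree] at h1
  exact_mod_cast h1

/-- Multiplicities through an intermediate group. -/
theorem ovMult_eq_sum {T' : Subgroup G} [Fintype T'] (S' : InvSetting η T') (hTT : T' ≤ T)
    (χ : IrrCharacter T) :
    ovMult S χ = ∑ ξ : IrrCharacter T', mult (Subgroup.inclusion hTT) χ ξ * ovMult S' ξ := by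
  apply Nat.cast_injective (R := ℂ)
  push_cast
  rw [ovMult, ← mult_spec,
    show (χ : T → ℂ) ∘ Subgroup.inclusion S.le =
      ((χ : T → ℂ) ∘ Subgroup.inclusion hTT) ∘ Subgroup.inclusion S'.le from rfl,
    irr_res_eq_sum χ (Subgroup.inclusion hTT)]
  have h1 : ((∑ ξ : IrrCharacter T',
      classInner ((χ : T → ℂ) ∘ Subgroup.inclusion hTT) (ξ : T' → ℂ) • (ξ : T' → ℂ)) ∘
        Subgroup.inclusion S'.le) =
      ∑ ξ : IrrCharacter T', classInner ((χ : T → ℂ) ∘ Subgroup.inclusion hTT) (ξ : T' → ℂ) •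
        ((ξ : T' → ℂ) ∘ Subgroup.inclusion S'.le) := by
    funext k
    simp [Finset.sum_apply]
  rw [h1, classInner_sum_left]
  refine Finset.sum_congr rfl fun ξ _ => ?_
  rw [classInner_smul_left, mult_spec, mult_spec]
  rfl

include S in
/-- Elements generating, with each element commuting with them, a cyclic group are good. -/
theorem good_of_pair {y : G} (h : ∀ x ∈ T, y * x * y⁻¹ * x⁻¹ ∈ K →
    ∃ z ∈ T, y ∈ K ⊔ Subgroup.zpowers z ∧ x ∈ K ⊔ Subgroup.zpowers z) :
    Good η T y := by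
  intro x hx hxy
  obtain ⟨z, hz, hyz, hxz⟩ := h x hx hxy
  set H := K ⊔ Subgroup.zpowers z
  set H' := K ⊔ Subgroup.zpowers y ⊔ Subgroup.zpowers x
  obtain ⟨ε, hε⟩ := ext_cyclic (η := η) (S.normalizes hz) (rfl : H = _) (S.inv z hz)
  have hle : H' ≤ H := sup_le (sup_le le_sup_left (Subgroup.zpowers_le.2 hyz))
    (Subgroup.zpowers_le.2 hxz)
  have hn : H' ≤ Subgroup.normalizer (K : Set G) :=
    hle.trans (le_normalizer_sup_zpowers (S.normalizes hz))
  haveI := normal_subgroupOf_of_le hn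
  have hKH : K ≤ H' := le_sup_left.trans le_sup_left
  refine ⟨⟨fun a => (ε : H → ℂ) (Subgroup.inclusion hle a), ?_⟩, fun k hk => hε k (hle hk)⟩
  refine CfsgLib.CharExtension.isIrrCharacter_of_restrict (K.subgroupOf H')
    (isCharacter_comp (irr_isCharacter ε) (Subgroup.inclusion hle)) ?_
  rw [show (fun a : K.subgroupOf H' => (ε : H → ℂ) (Subgroup.inclusion hle (a : H'))) =
    fun a : K.subgroupOf H' => (η : K → ℂ) ⟨a, a.2⟩ from funext fun a => hε ⟨a, a.2⟩ _]
  exact isIrr_subgroupOf η hKH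

include S in
theorem good_one : Good η T (1 : G) :=
  good_of_pair S fun x hx _ => ⟨x, hx, Subgroup.one_mem _,
    Subgroup.mem_sup_right (Subgroup.mem_zpowers x)⟩

/-- With at most two characters over `η` all nontrivial good elements are conjugate modulo `K`. -/
theorem exists_conj_of_card_le_two
    (h2 : Nat.card {χ : IrrCharacter T // Over (Subgroup.inclusion S.le) η χ} ≤ 2)
    {y y' : G} (hy : y ∈ T) (hy' : y' ∈ T) (hyK : y ∉ K) (hy'K : y' ∉ K)
    (hg : Good η T y) (hg' : Good η T y') : ∃ z ∈ T, z * y * z⁻¹ * y'⁻¹ ∈ K := by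
  rw [card_over_eq S T le_rfl fun t ht => ⟨1, K.one_mem, t, ht, one_mul t⟩] at h2
  have heq := goodRel_equivalence S (Y := T) le_rfl
  by_contra hne
  let one' : {y : T // Good η T y} := ⟨⟨1, T.one_mem⟩, good_one S⟩
  let a : {y : T // Good η T y} := ⟨⟨y, hy⟩, hg⟩
  let b : {y : T // Good η T y} := ⟨⟨y', hy'⟩, hg'⟩
  have hne' : ∀ u v, ¬ goodRel η T T u v → Quot.mk (goodRel η T T) u ≠ Quot.mk _ v :=
    fun u v h e => h (heq.eqvGen_iff.1 (Quot.eqvGen_exact e))
  have hone : ∀ (w : G) (hwT : w ∈ T), w ∉ K → ∀ hw : Good η T w,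
      ¬ goodRel η T T one' ⟨⟨w, hwT⟩, hw⟩ := by
    rintro w _ hwK _ ⟨z, _, hzw⟩
    refine hwK (K.inv_mem_iff.1 ?_)
    simpa [one'] using hzw
  let f : Fin 3 → Quot (goodRel η T T) :=
    ![Quot.mk _ one', Quot.mk _ a, Quot.mk _ b]
  have h1 := hne' _ _ (hone y hy hyK hg)
  have h2' := hne' _ _ (hone y' hy' hy'K hg')
  have h3 := hne' a b (fun ⟨z, hz, hzy⟩ => hne ⟨z, hz, hzy⟩)
  have hf : Function.Injective f := by
    intro i j hij
    fin_cases i <;> fin_cases j <;>
      first | rfl | exact absurd hij h1 | exact absurd hij h2' | exact absurd hij h3 | exact absurd hij.symm h1 | exact absurd hij.symm h2' | exact absurd hij.symm h3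
  have := Nat.card_le_card_of_injective f hf
  simp at this
  omega

/-- The averaged square of a character over `η`, where all nontrivial good cosets are conjugate. -/
theorem exists_value {χ : IrrCharacter T} (hχ : Over (Subgroup.inclusion S.le) η χ) {g : G}
    (hg : g ∈ T) (hgood : ∀ t ∈ T, t ∉ K → Good η T t → ∃ z ∈ T, z * g * z⁻¹ * t⁻¹ ∈ K)
    (hgK : g ∉ K) (R : Subgroup G) (hKR : K ≤ R) (hRT : R ≤ T)
    (hR : ∀ t ∈ R, t ∉ K → ∃ z ∈ T, z * g * z⁻¹ * t⁻¹ ∈ K) :
    ∃ u : ℤ, (Nat.card K : ℤ) * (ovMult S χ : ℤ) ^ 2 +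
        (Nat.card {t : T // ∃ z ∈ T, z * g * z⁻¹ * (t : G)⁻¹ ∈ K} : ℤ) * u = Nat.card T ∧
      ((K.relIndex R : ℕ) : ℤ) ∣
        (ovMult S χ : ℤ) ^ 2 + ((K.relIndex R : ℕ) - 1 : ℤ) * u := by
  haveI := normal_subgroupOf_of_le S.normalizes
  haveI : Fintype (K.subgroupOf T) := Fintype.ofFinite _
  set N := K.subgroupOf T
  set F : T → ℂ := NormalAvg.pairAvg N (χ : T → ℂ) (χ : T → ℂ) with hF
  have hFc : IsCharacter T F :=
    NormalAvg.isCharacter_pairAvg N (irr_isCharacter χ) (irr_isCharacter χ)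
  have hFN : ∀ (k : N) (t : T), F ((k : T) * t) = F t := fun k t =>
    NormalAvg.avgN_mul_left N _ k t
  have hFK : ∀ t : T, (t : G) ∈ K → F t = F 1 := fun t ht => by
    have := hFN ⟨t, ht⟩ 1
    rwa [mul_one] at this
  have hF1 : F 1 = (ovMult S χ : ℂ) ^ 2 := by
    rw [hF, NormalAvg.pairAvg_one]
    have e : (fun n : N => (χ : T → ℂ) n) =
        ((ovMult S χ : ℂ) • fun n : N => (η : K → ℂ) ⟨n, n.2⟩) := funext fun n =>
      congrFun (S.res_eq hχ) ⟨n, n.2⟩
    rw [e, classInner_smul_left, classInner_conj_symm, classInner_smul_left,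
      classInner_irr_self (isIrr_subgroupOf η S.le), mul_one, Complex.conj_natCast, sq]
  set C : Finset T := Finset.univ.filter fun t => ∃ z ∈ T, z * g * z⁻¹ * (t : G)⁻¹ ∈ K with hC
  have hCK : ∀ t : T, (t : G) ∈ K → t ∉ C := by
    intro t ht htC
    obtain ⟨z, hz, h⟩ := (Finset.mem_filter.1 htC).2
    apply hgK
    have h2 : z * g * z⁻¹ ∈ K := by
      have := K.mul_mem h ht
      simpa using this
    exact (Subgroup.mem_normalizer_iff.1 (S.normalizes hz) g).2 h2
  have hFC : ∀ t ∈ C, F t = F ⟨g, hg⟩ := by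
    intro t ht
    obtain ⟨z, hz, h⟩ := (Finset.mem_filter.1 ht).2
    let k : N := ⟨⟨_, S.le h⟩, h⟩
    have e : ((k : T) * t : T) = ⟨z, hz⟩ * ⟨g, hg⟩ * ⟨z, hz⟩⁻¹ := Subtype.ext (by simp [k])
    rw [← hFN k t, e, (isClassFunction_of_isCharacter hFc) _ _]
  have hF0 : ∀ t : T, (t : G) ∉ K → t ∉ C → F t = 0 := by
    intro t htK htC
    have hng : ¬ Good η T (t : G) := fun hg' =>
      htC (Finset.mem_filter.2 ⟨Finset.mem_univ _, hgood t t.2 htK hg'⟩)
    rw [hF, NormalAvg.pairAvg_apply, Finset.sum_eq_zero, mul_zero]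
    intro n _
    have h0 : (χ : T → ℂ) ((n : T) * t) = 0 :=
      S.eq_zero_of_not_good (S.inV_of_over hχ) (irr_isClassFunction χ) hng ⟨_, n.2⟩
    rw [h0, zero_mul]
  set NK := Finset.univ.filter fun t : T => (t : G) ∈ K
  have hNK : NK.card = Nat.card K := by
    rw [← Fintype.card_subtype, ← Nat.card_eq_fintype_card]
    exact Nat.card_congr ⟨fun t => ⟨t.1, t.2⟩, fun k => ⟨⟨k, S.le k.2⟩, k.2⟩,
      fun _ => rfl, fun _ => rfl⟩
  have hsum : ∑ t : T, F t = (Nat.card T : ℂ) := by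
    have h1 := NormalAvg.classInner_avgN_left N (fun t : T => (χ : T → ℂ) t * conj ((χ : T → ℂ) t))
      (f := fun _ => 1) fun _ _ => rfl
    have h2 : classInner (fun t : T => (χ : T → ℂ) t * conj ((χ : T → ℂ) t)) (fun _ => (1 : ℂ)) = 1 := by
      refine Eq.trans ?_ (classInner_irr_self χ.2)
      simp [classInner]
    rw [h2, show NormalAvg.avgN N (fun t : T => (χ : T → ℂ) t * conj ((χ : T → ℂ) t)) = F from rfl,
      classInner, inv_mul_eq_iff_eq_mul₀ (Nat.cast_ne_zero.2 Nat.card_pos.ne'), mul_one] at h1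
    simpa using h1
  have hsplit : (Nat.card K : ℂ) * (ovMult S χ : ℂ) ^ 2 + (C.card : ℂ) * F ⟨g, hg⟩ =
      (Nat.card T : ℂ) := by
    rw [← hsum, ← Finset.sum_subset (Finset.subset_univ (NK ∪ C)) (fun t _ ht => by
      rw [Finset.notMem_union, Finset.mem_filter, not_and] at ht
      exact hF0 t (ht.1 (Finset.mem_univ _)) ht.2),
      Finset.sum_union (Finset.disjoint_left.2 fun t ht htC => hCK t (Finset.mem_filter.1 ht).2 htC),
      Finset.sum_congr rfl (fun t ht => hFK t (Finset.mem_filter.1 ht).2),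
      Finset.sum_congr rfl hFC, Finset.sum_const, Finset.sum_const, hNK, hF1, nsmul_eq_mul,
      nsmul_eq_mul]
  have hgC : (⟨g, hg⟩ : T) ∈ C :=
    Finset.mem_filter.2 ⟨Finset.mem_univ _, 1, T.one_mem, by simp⟩
  have hC0 : (C.card : ℂ) ≠ 0 := Nat.cast_ne_zero.2 (Finset.card_ne_zero.2 ⟨_, hgC⟩)
  obtain ⟨u, hu⟩ : ∃ u : ℤ, F ⟨g, hg⟩ = (u : ℂ) := by
    have hrat : F ⟨g, hg⟩ = ((((Nat.card T : ℚ) - (Nat.card K : ℚ) * (ovMult S χ : ℚ) ^ 2) /
        (C.card : ℚ) : ℚ) : ℂ) := by
      push_cast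
      rw [eq_div_iff hC0]
      linear_combination hsplit
    have hi := isIntegral_of_isCharacter hFc ⟨g, hg⟩
    rw [hrat] at hi
    obtain ⟨z, hz⟩ := exists_int_of_isIntegral_rat hi
    exact ⟨z, by rw [hrat, ← hz]; norm_num⟩
  have hCcard : Nat.card {t : T // ∃ z ∈ T, z * g * z⁻¹ * (t : G)⁻¹ ∈ K} = C.card := by
    rw [Nat.card_eq_fintype_card, Fintype.card_subtype]
  refine ⟨u, ?_, ?_⟩
  · rw [hCcard]
    rw [hu] at hsplit
    exact_mod_cast hsplit
  · haveI : Fintype R := Fintype.ofFinite _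
    have hres : IsCharacter R (F ∘ Subgroup.inclusion hRT) := isCharacter_comp hFc _
    obtain ⟨m, hm⟩ := classInner_char_nat hres (isCharacter_one (G := R))
    rw [classInner, inv_mul_eq_iff_eq_mul₀ (Nat.cast_ne_zero.2 Nat.card_pos.ne')] at hm
    simp only [Function.comp_apply, Pi.one_apply, map_one, mul_one] at hm
    set RK := Finset.univ.filter fun t : R => (t : G) ∈ K with hRK
    have hRKc : RK.card = Nat.card K := by
      rw [← Fintype.card_subtype, ← Nat.card_eq_fintype_card]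
      exact Nat.card_congr ⟨fun t => ⟨t.1, t.2⟩, fun k => ⟨⟨k, hKR k.2⟩, k.2⟩,
        fun _ => rfl, fun _ => rfl⟩
    have hRcard : Nat.card K * K.relIndex R = Nat.card R := by
      rw [← Subgroup.relIndex_bot_left K, ← Subgroup.relIndex_bot_left R]
      exact Subgroup.relIndex_mul_relIndex _ _ _ bot_le hKR
    have e1 : ∀ t ∈ RK, F (Subgroup.inclusion hRT t) = F 1 := fun t ht =>
      hFK (Subgroup.inclusion hRT t) (Finset.mem_filter.1 ht).2
    have e2 : ∀ t ∈ Finset.univ.filter (fun t : R => ¬ (t : G) ∈ K),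
        F (Subgroup.inclusion hRT t) = (u : ℂ) := fun t ht =>
      (hFC (Subgroup.inclusion hRT t)
        (Finset.mem_filter.2 ⟨Finset.mem_univ _, hR t t.2 (Finset.mem_filter.1 ht).2⟩)).trans hu
    rw [← Finset.sum_filter_add_sum_filter_not Finset.univ (fun t : R => (t : G) ∈ K),
      ← hRK, Finset.sum_congr rfl e1, Finset.sum_congr rfl e2,
      Finset.sum_const, Finset.sum_const, hRKc, hF1, nsmul_eq_mul, nsmul_eq_mul,
      Finset.filter_not, Finset.card_univ_sdiff, hRKc, ← Nat.card_eq_fintype_card, ← hRcard] at hm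
    refine ⟨(m : ℤ), ?_⟩
    apply Int.cast_injective (α := ℂ)
    have hK : (Nat.card K : ℂ) ≠ 0 := Nat.cast_ne_zero.2 Nat.card_pos.ne'
    refine mul_left_cancel₀ hK ?_
    have h1 : (1 : ℕ) ≤ K.relIndex R := Nat.one_le_iff_ne_zero.2 (K.subgroupOf R).index_ne_zero_of_finite
    rw [show Nat.card K * K.relIndex R - Nat.card K = Nat.card K * (K.relIndex R - 1) by
      rw [Nat.mul_sub, mul_one]] at hm
    push_cast [Nat.cast_sub h1] at hm ⊢
    linear_combination hm

end CfsgLib.ThreeBlock9
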