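import Cfsg.Agent.Lib.ThreeBlock9.Twist
import Cfsg.Agent.Lib.ThreeBlock9.TwoOver
import Cfsg.Agent.Lib.BlockCover.NormalDefect
import Cfsg.Agent.Lib.BlockCover.NormalizerBlock
import Cfsg.Agent.Lib.OddOrder.CliffordInd
import Cfsg.Agent.Lib.Characters.LinearExt
import Cfsg.Agent.Lib.Blocks.BlockParts
import Cfsg.Agent.Lib.Blocks.RankOrth
import Cfsg.Agent.Lib.Blocks.CyclicNilpotent

/-!
# The members of a block with a normal abelian defect group

`θ` is the member trivial on `V` of the covered block of `L = C(V)`; the members of `B` are induced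
from the twists of the characters over `θ` of the stabilisers of the linear characters of `V`.
-/

set_option autoImplicit false
set_option linter.unusedSectionVars false
set_option linter.style.haveILetI false

noncomputable section

namespace CfsgLib.ThreeBlock9

open Cfsg CfsgLib.Characters CfsgLib.CharCorr CfsgLib.BlockCover CfsgLib.RelMcKay
open CfsgLib.CentralDefect (Setup HasPart)
open scoped ComplexConjugate

universe u

variable {G : Type u} [Group G] [Fintype G] {p : ℕ} [hp : Fact p.Prime] {M : Ideal AlgInt}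

local instance fintypeSub (K : Subgroup G) : Fintype K := Fintype.ofFinite K

/-- The centraliser. -/
abbrev CV (V : Subgroup G) : Subgroup G := Subgroup.centralizer (V : Set G)

/-- The block of the centraliser and its member trivial on `V`. -/
structure Ctx (p : ℕ) (M : Ideal AlgInt) (B : Set (IrrCharacter G)) (V : Subgroup G) [V.Normal] where
  isModular : IsPModular p M
  pgroup : IsPGroup p V
  le : V ≤ CV V
  isBlock : IsPBlock M B
  c : Set (IrrCharacter (CV V))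
  isBlockC : IsPBlock M c
  covers : ∃ χ ∈ B, ∃ θ ∈ c, classInner (fun n : CV V => (χ : G → ℂ) n) (θ : CV V → ℂ) ≠ 0
  θ : IrrCharacter (CV V)
  b : ℕ
  setup : Setup p (V.subgroupOf (CV V)) θ b
  mem : θ ∈ c
  triv : ∀ x ∈ V.subgroupOf (CV V), (θ : CV V → ℂ) x = (θ : CV V → ℂ) 1
  inertial : ¬ p ∣ (CV V).relIndex
    (CfsgLib.Clifford.inertia (inferInstance : (CV V).Normal) (θ : CV V → ℂ))

theorem sub_centralizer_top (V : Subgroup G) :
    V.subgroupOf (CV V) ⊔ Subgroup.centralizer (V.subgroupOf (CV V) : Set (CV V)) = ⊤ :=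
  eq_top_iff.2 fun x _ => Subgroup.mem_sup_right
    (Subgroup.mem_centralizer_iff.2 fun u hu => Subtype.ext (Subgroup.mem_centralizer_iff.1 x.2 _ hu))

theorem exists_ctx (hM : IsPModular p M) {B : Set (IrrCharacter G)} (hB : IsPBlock M B)
    {V : Subgroup G} [V.Normal] (hD : IsDefectGroup p M B V)
    (hab : ∀ x ∈ V, ∀ y ∈ V, x * y = y * x) : Nonempty (Ctx p M B V) := by
  classical
  have hV := isPGroup_defect hM hD
  have hle : V ≤ CV V := fun x hx => Subgroup.mem_centralizer_iff.2 fun y hy => hab y hy x hx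
  obtain ⟨χ₀, hχ₀⟩ := Blocks.IsPBlock.nonempty hM hB
  obtain ⟨θ₀, hθ₀⟩ := exists_constituent (CV V) χ₀
  set c := blockOf M (θ₀ : CV V → ℂ)
  have hc : IsPBlock M c := Blocks.isPBlock_blockOf θ₀
  have hθc : θ₀ ∈ c := Blocks.mem_blockOf_self hM θ₀
  obtain ⟨Q, hQ⟩ := Blocks.exists_isDefectGroup hM hc
  obtain ⟨P', hP', hPQ⟩ := exists_defectGroup_inter_eq (CV V) hM hB hc hχ₀ hθc hθ₀ hQ
  obtain ⟨t, rfl⟩ := defectGroup_conjugate hM hB hD hP'
  rw [BrauerPairs.map_conj_eq_self ((Subgroup.normalizer_eq_top (H := V)).symm ▸ Subgroup.mem_top t),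
    inf_eq_left.2 hle] at hPQ
  obtain rfl : Q = V.subgroupOf (CV V) :=
    (Subgroup.comap_map_eq_self_of_injective (CV V).subtype_injective Q).symm.trans
      (congrArg (Subgroup.comap (CV V).subtype) hPQ.symm)
  have hVp : IsPGroup p (V.subgroupOf (CV V)) := hV.comap_of_injective _ (CV V).subtype_injective
  obtain ⟨θ, b, hθ, htriv, -, hS⟩ :=
    CentralDefect.exists_trivial_member hM hVp (sub_centralizer_top V) hc hQ
  set T := CfsgLib.Clifford.inertia (inferInstance : (CV V).Normal) (θ : CV V → ℂ)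
  have hind := isInducedBlock_of_covers_centralizer hM V hV (CV V) le_rfl hc hB
    ⟨χ₀, hχ₀, θ₀, hθc, hθ₀⟩
  refine ⟨⟨hM, hV, hle, hB, c, hc, ⟨χ₀, hχ₀, θ₀, hθc, hθ₀⟩, θ, b, hS, hθ, htriv, ?_⟩⟩
  refine (isDefectGroup_iff_inertial hM hV (sup_eq_right.2 hle).symm hc hQ hind fun g => ?_).1 hD
  rw [Subgroup.normalizer_eq_top]
  refine ⟨fun hg => ⟨Subgroup.mem_top g, fun ψ hψ ψ' hψ' => ?_⟩, fun hg => ?_⟩
  · have h1 : ψ' = conjIrr (CV V) g⁻¹ ψ := Subtype.ext (funext fun y => by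
      rw [conjIrr_apply]
      exact hψ' ⟨g⁻¹ * y * g⁻¹⁻¹, (inferInstance : (CV V).Normal).conj_mem y y.2 g⁻¹⟩ y
        (by simp [mul_assoc]))
    have h2 : conjIrr (CV V) g⁻¹ θ = θ := Subtype.ext (funext fun y => by
      rw [conjIrr_apply]
      exact CfsgLib.Clifford.mem_inertia.1 (T.inv_mem hg) y)
    refine (Blocks.IsPBlock.mem_iff hM hc hθ _).2 ?_
    rw [h1]
    have h3 := sameBlock_conjIrr (CV V) ((Blocks.IsPBlock.mem_iff hM hc hθ _).1 hψ) g⁻¹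
    rwa [h2] at h3
  · have h1 : conjIrr (CV V) g⁻¹ θ ∈ c := hg.2 θ hθ _ fun h h' e => by
      rw [conjIrr_apply]
      refine congrArg (θ : CV V → ℂ) (Subtype.ext ?_)
      show g⁻¹ * (h' : G) * g⁻¹⁻¹ = h
      rw [e]; group
    obtain ⟨ζ, hζ⟩ := CentralDefect.exists_ext_eq hS (sub_centralizer_top V) hM
      ((Blocks.IsPBlock.mem_iff hM hc hθ _).1 h1)
    have hp1 := CentralDefect.eq_principal_of_trivial hS (sub_centralizer_top V) (ζ := ζ)
      fun x hx => by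
        rw [hζ, conjIrr_apply, conjIrr_apply]
        have hx' : g⁻¹ * (x : G) * g⁻¹⁻¹ ∈ V := (inferInstance : V.Normal).conj_mem _ hx _
        rw [htriv ⟨_, (inferInstance : (CV V).Normal).conj_mem _ x.2 g⁻¹⟩ hx']
        exact congrArg (θ : CV V → ℂ) (Subtype.ext (by simp))
    obtain ⟨ζ', hζ'⟩ := CentralDefect.exists_ext_eq hS (sub_centralizer_top V) hM
      ((Blocks.IsPBlock.mem_iff hM hc hθ _).1 hθ)
    have hp2 := CentralDefect.eq_principal_of_trivial hS (sub_centralizer_top V) (ζ := ζ')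
      fun x hx => by rw [hζ']; exact htriv x hx
    have heq : conjIrr (CV V) g⁻¹ θ = θ := by rw [← hζ, hp1, ← hp2, hζ']
    rw [show g = g⁻¹⁻¹ by rw [inv_inv]]
    exact T.inv_mem (CfsgLib.Clifford.mem_inertia.2 fun y => by
      conv_rhs => rw [← heq, conjIrr_apply])

variable {B : Set (IrrCharacter G)} {V : Subgroup G} [V.Normal] (C : Ctx p M B V)

namespace Ctx

/-- A linear character of `V` as a character of `V` inside `C(V)`. -/
def eps (ζ : V →* ℂˣ) : IrrCharacter (V.subgroupOf (CV V)) :=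
  ⟨_, isIrrCharacter_of_hom (ζ.comp
    ({ toFun := fun u => ⟨u.1.1, u.2⟩, map_one' := rfl, map_mul' := fun _ _ => rfl } :
      V.subgroupOf (CV V) →* V))⟩

/-- The member of `c` attached to `ζ`. -/
def th (ζ : V →* ℂˣ) : IrrCharacter (CV V) :=
  CentralDefect.ext C.setup (sub_centralizer_top V) (eps ζ)

theorem regular_mem {y : G} (hy : y ∈ CV V) (h : ¬ p ∣ orderOf y) :
    ¬ p ∣ orderOf (⟨y, hy⟩ : CV V) := by rwa [Subgroup.orderOf_mk]

theorem th_mul (ζ : V →* ℂˣ) (u : V) (y : CV V) (hy : ¬ p ∣ orderOf y) :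
    (C.th ζ : CV V → ℂ) (⟨u, C.le u.2⟩ * y) = (ζ u : ℂ) * (C.θ : CV V → ℂ) y :=
  CentralDefect.pExt_mul C.setup.pgroup C.setup.comm _ _ ⟨⟨u, C.le u.2⟩, u.2⟩ hy

theorem th_regular (ζ : V →* ℂˣ) (y : CV V) (hy : ¬ p ∣ orderOf y) :
    (C.th ζ : CV V → ℂ) y = (C.θ : CV V → ℂ) y := by
  have h := C.th_mul ζ 1 y hy
  rw [map_one, Units.val_one, one_mul,
    show (⟨((1 : V) : G), C.le (1 : V).2⟩ : CV V) = 1 from rfl, one_mul] at h
  exact h

theorem th_apply_mem (ζ : V →* ℂˣ) (u : V) :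
    (C.th ζ : CV V → ℂ) ⟨u, C.le u.2⟩ = (ζ u : ℂ) * (C.θ : CV V → ℂ) 1 := by
  have h := C.th_mul ζ u 1 (by rw [orderOf_one]; exact hp.out.not_dvd_one)
  rwa [mul_one] at h

theorem th_apply_none (ζ : V →* ℂˣ) {x : CV V}
    (h : ¬ ∃ u : V.subgroupOf (CV V), HasPart (V.subgroupOf (CV V)) p x u) :
    (C.th ζ : CV V → ℂ) x = 0 ∧ (C.θ : CV V → ℂ) x = 0 :=
  ⟨CentralDefect.pExt_eq_zero _ _ h, (CentralDefect.regular_sum_and_vanish C.setup).2 _ h⟩

theorem exists_mul_of_hasPart {x : CV V} {u : V.subgroupOf (CV V)}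
    (h : HasPart (V.subgroupOf (CV V)) p x u) :
    ∃ (v : V) (y : CV V), ¬ p ∣ orderOf y ∧ x = ⟨v, C.le v.2⟩ * y ∧ (v : G) = (u : CV V) :=
  ⟨⟨((u : CV V) : G), u.2⟩, (u : CV V)⁻¹ * x, h, (mul_inv_cancel_left (u : CV V) x).symm, rfl⟩

theorem th_one : C.th (1 : V →* ℂˣ) = C.θ := by
  refine Subtype.ext (funext fun x => ?_)
  by_cases h : ∃ u : V.subgroupOf (CV V), HasPart (V.subgroupOf (CV V)) p x u
  · obtain ⟨u, hu⟩ := h
    obtain ⟨v, y, hy, rfl, -⟩ := C.exists_mul_of_hasPart hu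
    rw [C.th_mul 1 v y hy, MonoidHom.one_apply, Units.val_one, one_mul]
    obtain ⟨η, hη⟩ := Chars17.exists_infl_eq (N := V.subgroupOf (CV V)) (χ := C.θ)
      fun a ha => Chars17.mem_irrKer.2 (C.triv a ha)
    haveI := C.setup.normal
    rw [← hη, Chars17.infl_apply, Chars17.infl_apply, QuotientGroup.mk_mul,
      (QuotientGroup.eq_one_iff _).2 (show (⟨v, C.le v.2⟩ : CV V) ∈ V.subgroupOf (CV V) from v.2),
      one_mul]
  · obtain ⟨h1, h2⟩ := C.th_apply_none 1 h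
    rw [h1, h2]

theorem th_mem (ζ : V →* ℂˣ) : C.th ζ ∈ C.c :=
  (Blocks.IsPBlock.mem_iff C.isModular C.isBlockC C.mem _).2 (fun g => by
    rw [← neg_sub]
    exact Blocks.MemLocalIdeal.neg C.isModular
      (CentralDefect.sameBlock_ext C.setup (sub_centralizer_top V) C.isModular C.triv (eps ζ) g))

theorem degree_th (ζ : V →* ℂˣ) :
    charDegree (C.th ζ : CV V → ℂ) = charDegree (C.θ : CV V → ℂ) := by
  rw [th, CentralDefect.charDegree_ext, charDegree, show (eps ζ : V.subgroupOf (CV V) → ℂ) 1 = 1 by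
    simp [eps]; exact map_one ζ]
  simp

/-- `V` inside the copy of `V` in `C(V)`. -/
def inclHom : V →* V.subgroupOf (CV V) where
  toFun u := ⟨⟨u, C.le u.2⟩, u.2⟩
  map_one' := rfl
  map_mul' _ _ := rfl

/-- Every member of `c` is attached to a linear character. -/
theorem exists_th_eq {ψ : IrrCharacter (CV V)} (hψ : ψ ∈ C.c) : ∃ ζ : V →* ℂˣ, C.th ζ = ψ := by
  obtain ⟨z, rfl⟩ := CentralDefect.exists_ext_eq C.setup (sub_centralizer_top V) C.isModular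
    ((Blocks.IsPBlock.mem_iff C.isModular C.isBlockC C.mem _).1 hψ)
  haveI : IsMulCommutative (V.subgroupOf (CV V)) := ⟨⟨fun a b => Subtype.ext (Subtype.ext
    (Subgroup.mem_centralizer_iff.1 (C.le b.2) (a.1.1) a.2))⟩⟩
  obtain ⟨f, hf⟩ := CfsgLib.LinearExt.exists_unitsHom (irr_isCharacter z)
    (CfsgLib.CharIto.degree_one_of_comm z.2)
  refine ⟨f.comp (inclHom C), ?_⟩
  rw [th]
  congr 1
  exact Subtype.ext (hf ▸ rfl)

theorem conj_mem (g : G) (u : V) : g * (u : G) * g⁻¹ ∈ V :=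
  (inferInstance : V.Normal).conj_mem u u.2 g

/-- When a translate of `th ζ` is `th ζ'`. -/
theorem conj_th_iff (g : G) (ζ ζ' : V →* ℂˣ) :
    (∀ n : CV V, (C.th ζ : CV V → ℂ) ⟨g * n * g⁻¹,
        (inferInstance : (CV V).Normal).conj_mem n n.2 g⟩ = (C.th ζ' : CV V → ℂ) n) ↔
      g ∈ CfsgLib.Clifford.inertia (inferInstance : (CV V).Normal) (C.θ : CV V → ℂ) ∧
        ∀ u : V, ζ ⟨g * u * g⁻¹, conj_mem g u⟩ = ζ' u := by
  set σ : CV V → CV V := fun n =>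
    ⟨g * n * g⁻¹, (inferInstance : (CV V).Normal).conj_mem n n.2 g⟩ with hσ
  have hmul : ∀ a b, σ (a * b) = σ a * σ b := fun a b => Subtype.ext (by simp [hσ, mul_assoc])
  have hreg : ∀ y, ¬ p ∣ orderOf y → ¬ p ∣ orderOf (σ y) := fun y hy => by
    rwa [← Subgroup.orderOf_coe, show ((σ y : CV V) : G) = MulAut.conj g (y : G) from rfl,
      MulEquiv.orderOf_eq, Subgroup.orderOf_coe]
  have hpart : ∀ x, (¬ ∃ u : V.subgroupOf (CV V), HasPart (V.subgroupOf (CV V)) p x u) →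
      ¬ ∃ u : V.subgroupOf (CV V), HasPart (V.subgroupOf (CV V)) p (σ x) u := by
    rintro x hx ⟨u, hu⟩
    have hm : g⁻¹ * ((u : CV V) : G) * g⁻¹⁻¹ ∈ V := (inferInstance : V.Normal).conj_mem _ u.2 _
    refine hx ⟨⟨⟨_, C.le hm⟩, hm⟩, ?_⟩
    rw [HasPart] at hu ⊢
    rw [← Subgroup.orderOf_coe] at hu ⊢
    rw [← (MulAut.conj g).orderOf_eq]
    convert hu using 3
    simp [hσ, mul_assoc]
  have hσu : ∀ u : V, σ ⟨u, C.le u.2⟩ = ⟨_, C.le (conj_mem g u)⟩ := fun u => Subtype.ext rfl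
  constructor
  · intro h
    have hθ : ∀ y, ¬ p ∣ orderOf y → (C.θ : CV V → ℂ) (σ y) = (C.θ : CV V → ℂ) y := fun y hy => by
      rw [← C.th_regular ζ _ (hreg y hy), ← C.th_regular ζ' y hy]; exact h y
    refine ⟨CfsgLib.Clifford.mem_inertia.2 fun x => ?_, fun u => ?_⟩
    · show (C.θ : CV V → ℂ) (σ x) = _
      by_cases hx : ∃ u : V.subgroupOf (CV V), HasPart (V.subgroupOf (CV V)) p x u
      · obtain ⟨u, hu⟩ := hx
        obtain ⟨v, y, hy, rfl, -⟩ := C.exists_mul_of_hasPart hu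
        rw [hmul, hσu, ← C.th_one, C.th_mul 1 v y hy]
        refine (C.th_mul 1 ⟨_, conj_mem g v⟩ (σ y) (hreg y hy)).trans ?_
        simp only [MonoidHom.one_apply, hθ y hy]
      · rw [(C.th_apply_none 1 hx).2, (C.th_apply_none 1 (hpart x hx)).2]
    · have h1 := h ⟨u, C.le u.2⟩
      rw [show (C.th ζ : CV V → ℂ) _ = _ from C.th_apply_mem ζ ⟨_, conj_mem g u⟩,
        C.th_apply_mem] at h1
      exact Units.ext (mul_right_cancel₀ (irr_one_ne_zero C.θ) h1)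
  · rintro ⟨hg, hζ⟩ x
    show (C.th ζ : CV V → ℂ) (σ x) = _
    by_cases hx : ∃ u : V.subgroupOf (CV V), HasPart (V.subgroupOf (CV V)) p x u
    · obtain ⟨u, hu⟩ := hx
      obtain ⟨v, y, hy, rfl, -⟩ := C.exists_mul_of_hasPart hu
      rw [hmul, hσu, C.th_mul ζ' v y hy]
      refine (C.th_mul ζ ⟨_, conj_mem g v⟩ (σ y) (hreg y hy)).trans ?_
      rw [hζ v, show (C.θ : CV V → ℂ) (σ y) = _ from CfsgLib.Clifford.mem_inertia.1 hg y]
    · rw [(C.th_apply_none ζ' hx).1, (C.th_apply_none ζ (hpart x hx)).1]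

/-- The stabiliser of `th ζ`. -/
def T (ζ : V →* ℂˣ) : Subgroup G :=
  CfsgLib.Clifford.inertia (inferInstance : (CV V).Normal) (C.th ζ : CV V → ℂ)

theorem mem_T {ζ : V →* ℂˣ} {g : G} :
    g ∈ C.T ζ ↔ g ∈ C.T 1 ∧ ∀ u : V, ζ ⟨g * u * g⁻¹, conj_mem g u⟩ = ζ u := by
  rw [T, T, CfsgLib.Clifford.mem_inertia, C.conj_th_iff g ζ ζ, C.th_one]

theorem T_le (ζ : V →* ℂˣ) : C.T ζ ≤ C.T 1 := fun _ hg => (C.mem_T.1 hg).1

theorem cv_le (ζ : V →* ℂˣ) : CV V ≤ C.T ζ :=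
  CfsgLib.Clifford.le_inertia _ (irr_isClassFunction _)

theorem not_dvd_relIndex (ζ : V →* ℂˣ) : ¬ p ∣ (CV V).relIndex (C.T ζ) := fun h => by
  apply C.inertial
  rw [← C.th_one]
  exact h.trans (Subgroup.relIndex_mul_relIndex _ _ _ (C.cv_le ζ) (C.T_le ζ) ▸ dvd_mul_right _ _)

theorem setting (ζ : V →* ℂˣ) : InvSetting (C.th ζ) (C.T ζ) where
  le := C.cv_le ζ
  normalizes := by rw [Subgroup.normalizer_eq_top]; exact le_top
  inv t ht l l' e := by
    rw [show l' = ⟨t * l * t⁻¹, (inferInstance : (CV V).Normal).conj_mem l l.2 t⟩ from Subtype.ext e]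
    exact CfsgLib.Clifford.mem_inertia.1 ht l

theorem setting₀ (ζ : V →* ℂˣ) : InvSetting C.θ (C.T ζ) where
  le := C.cv_le ζ
  normalizes := by rw [Subgroup.normalizer_eq_top]; exact le_top
  inv t ht l l' e := by
    rw [show l' = ⟨t * l * t⁻¹, (inferInstance : (CV V).Normal).conj_mem l l.2 t⟩ from Subtype.ext e]
    have ht1 : t ∈ CfsgLib.Clifford.inertia (inferInstance : (CV V).Normal) (C.θ : CV V → ℂ) := by
      rw [← C.th_one]
      exact C.T_le ζ ht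
    exact CfsgLib.Clifford.mem_inertia.1 ht1 l

/-- The characters of the stabiliser over `θ`. -/
abbrev Sec (ζ : V →* ℂˣ) : Type u :=
  {ψ : IrrCharacter (C.T ζ) // Over (Subgroup.inclusion (C.setting₀ ζ).le) C.θ ψ}

theorem triv_of_over {ζ : V →* ℂˣ} (ψ : C.Sec ζ) (u : C.T ζ) (hu : (u : G) ∈ V) :
    (ψ.1 : C.T ζ → ℂ) u = (ψ.1 : C.T ζ → ℂ) 1 := by
  have h1 := congrFun ((C.setting₀ ζ).res_eq ψ.2) ⟨u, C.le hu⟩
  have h2 := congrFun ((C.setting₀ ζ).res_eq ψ.2) 1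
  rw [Pi.smul_apply, C.triv ⟨u, C.le hu⟩ hu] at h1
  rw [Pi.smul_apply, ← h1, map_one] at h2
  exact h2.symm

/-- A character over `θ` has a twist over `th ζ`. -/
theorem exists_tw (ζ : V →* ℂˣ) (ψ : C.Sec ζ) :
    ∃ χ : IrrCharacter (C.T ζ),
      (∀ y : C.T ζ, ¬ p ∣ orderOf y → (χ : C.T ζ → ℂ) y = (ψ.1 : C.T ζ → ℂ) y) ∧
      (∀ x : C.T ζ, (χ : C.T ζ → ℂ) x = 0 ∧ (ψ.1 : C.T ζ → ℂ) x = 0 ∨
        ∃ (u : V) (y : C.T ζ), ¬ p ∣ orderOf y ∧ (x : G) = u * y ∧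
          (χ : C.T ζ → ℂ) x = (ζ u : ℂ) * (ψ.1 : C.T ζ → ℂ) y) ∧
      ovMult (C.setting ζ) χ = ovMult (C.setting₀ ζ) ψ.1 := by
  classical
  set T := C.T ζ
  set S := C.setting₀ ζ
  have hVT : V ≤ T := C.le.trans (C.cv_le ζ)
  haveI : (V.subgroupOf T).Normal := Subgroup.Normal.subgroupOf inferInstance T
  let e : V.subgroupOf T →* V :=
    { toFun := fun u => ⟨u.1.1, u.2⟩, map_one' := rfl, map_mul' := fun _ _ => rfl }
  have hm := degree_over S ψ.2
  haveI := normal_subgroupOf_of_le S.normalizes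
  haveI : Fintype ((CV V).subgroupOf T) := Fintype.ofFinite _
  obtain ⟨k, hk, hkdvd⟩ := CfsgLib.Ramified.degree_ratio_dvd_index ((CV V).subgroupOf T) ψ.1.2
    (isIrr_subgroupOf C.θ S.le) (by
      rw [classInner_subgroupOf_res S.le]; exact (over_iff _ C.θ ψ.1).1 ψ.2)
  have hk' : charDegree (ψ.1 : T → ℂ) = k * charDegree (C.θ : CV V → ℂ) := by
    rw [irr_one_eq_charDegree] at hk
    have h1 : (C.θ : CV V → ℂ) ⟨((1 : (CV V).subgroupOf T) : T), (1 : (CV V).subgroupOf T).2⟩ =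
        (charDegree (C.θ : CV V → ℂ) : ℂ) := irr_one_eq_charDegree C.θ
    rw [h1] at hk
    exact_mod_cast hk
  obtain ⟨d, hd⟩ := hkdvd
  have hd' : (CV V).relIndex T = k * d := hd
  have hpd : ¬ p ∣ d := fun h => C.not_dvd_relIndex ζ (by rw [hd']; exact h.mul_left k)
  obtain ⟨χ, h1, h2⟩ := exists_twist (V.subgroupOf T)
    (C.pgroup.comap_of_injective _ T.subtype_injective) (ζ.comp e)
    (fun h u hu => (C.mem_T.1 h.2).2 (e u)) ψ.1
    (fun u hu => C.triv_of_over ψ u hu) (b := C.b * d) (hp.out.not_dvd_mul C.setup.not_dvd hpd) (by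
      rw [hk', show k * charDegree (C.θ : CV V → ℂ) * (C.b * d) * Nat.card (V.subgroupOf T) =
          (k * d) * (charDegree (C.θ : CV V → ℂ) * C.b * Nat.card (V.subgroupOf T)) by ring,
        Nat.card_congr (Subgroup.subgroupOfEquivOfLe hVT).toEquiv,
        ← Nat.card_congr (Subgroup.subgroupOfEquivOfLe C.le).toEquiv, C.setup.degree, ← hd',
        mul_comm, ← Subgroup.relIndex_bot_left (CV V), ← Subgroup.relIndex_bot_left T,
        Subgroup.relIndex_mul_relIndex _ _ _ bot_le (C.cv_le ζ)])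
  have hreg : ∀ y : T, ¬ p ∣ orderOf y → (χ : T → ℂ) y = (ψ.1 : T → ℂ) y := fun y hy => by
    have := h1 1 y hy
    rwa [map_one, Units.val_one, one_mul, OneMemClass.coe_one, one_mul] at this
  refine ⟨χ, hreg, fun x => ?_, ?_⟩
  · by_cases hx : ∀ u ∈ V.subgroupOf T, ∀ y : T, ¬ p ∣ orderOf y → x ≠ u * y
    · exact Or.inl (h2 x hx)
    · push Not at hx
      obtain ⟨u, hu, y, hy, rfl⟩ := hx
      exact Or.inr ⟨e ⟨u, hu⟩, y, hy, rfl, h1 ⟨u, hu⟩ y hy⟩
  · set m := ovMult S ψ.1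
    have hres : (fun l : CV V => (χ : T → ℂ) (Subgroup.inclusion (C.cv_le ζ) l)) =
        (m : ℂ) • (C.th ζ : CV V → ℂ) := by
      funext l
      rw [Pi.smul_apply, smul_eq_mul]
      by_cases hl : ∃ u : V.subgroupOf (CV V), HasPart (V.subgroupOf (CV V)) p l u
      · obtain ⟨u, hu⟩ := hl
        obtain ⟨v, y, hy, rfl, -⟩ := C.exists_mul_of_hasPart hu
        have hy' : ¬ p ∣ orderOf (Subgroup.inclusion (C.cv_le ζ) y) := by
          rwa [orderOf_injective _ (Subgroup.inclusion_injective _)]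
        rw [map_mul, C.th_mul ζ v y hy]
        refine (h1 ⟨⟨v, hVT v.2⟩, v.2⟩ _ hy').trans ?_
        have h3 := congrFun (S.res_eq ψ.2) y
        rw [Pi.smul_apply, smul_eq_mul] at h3
        show (ζ v : ℂ) * (ψ.1 : T → ℂ) (Subgroup.inclusion S.le y) = _
        rw [h3]
        show (ζ v : ℂ) * ((m : ℂ) * _) = _
        ring
      · rw [(C.th_apply_none ζ hl).1, mul_zero]
        refine (h2 _ fun u hu y hy he => hl ?_).1
        refine ⟨⟨⟨u, C.le hu⟩, hu⟩, ?_⟩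
        rw [HasPart, ← Subgroup.orderOf_coe]
        have h4 : ((u : T) : G)⁻¹ * (l : G) = (y : G) := by
          rw [show (l : G) = ((u : T) : G) * y from congrArg Subtype.val he, inv_mul_cancel_left]
        show ¬ p ∣ orderOf (((u : T) : G)⁻¹ * (l : G))
        rwa [h4, Subgroup.orderOf_coe]
    rw [ovMult]
    refine mult_eq_of_classInner_eq _ _ _ ?_
    rw [show (χ : T → ℂ) ∘ Subgroup.inclusion (C.setting ζ).le =
      fun l : CV V => (χ : T → ℂ) (Subgroup.inclusion (C.cv_le ζ) l) from rfl, hres,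
      classInner_smul_left, classInner_irr_self (C.th ζ).2, mul_one]

/-- The twist. -/
def tw (ζ : V →* ℂˣ) (ψ : C.Sec ζ) : IrrCharacter (C.T ζ) := (C.exists_tw ζ ψ).choose

theorem tw_regular (ζ : V →* ℂˣ) (ψ : C.Sec ζ) {y : C.T ζ} (hy : ¬ p ∣ orderOf y) :
    (C.tw ζ ψ : C.T ζ → ℂ) y = (ψ.1 : C.T ζ → ℂ) y :=
  (C.exists_tw ζ ψ).choose_spec.1 y hy

theorem ovMult_tw (ζ : V →* ℂˣ) (ψ : C.Sec ζ) :
    ovMult (C.setting ζ) (C.tw ζ ψ) = ovMult (C.setting₀ ζ) ψ.1 :=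
  (C.exists_tw ζ ψ).choose_spec.2.2

theorem over_tw (ζ : V →* ℂˣ) (ψ : C.Sec ζ) :
    Over (Subgroup.inclusion (C.setting ζ).le) (C.th ζ) (C.tw ζ ψ) := by
  rw [over_iff_ovMult (C.setting ζ), C.ovMult_tw]
  exact ψ.2

theorem tw_injective (ζ : V →* ℂˣ) : Function.Injective (C.tw ζ) := by
  intro ψ ψ' e
  refine Subtype.ext (Subtype.ext (funext fun x => ?_))
  have hVT : V ≤ C.T ζ := C.le.trans (C.cv_le ζ)
  have hmul : ∀ (φ : C.Sec ζ) (u : V) (y : C.T ζ),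
      (φ.1 : C.T ζ → ℂ) (⟨u, hVT u.2⟩ * y) = (φ.1 : C.T ζ → ℂ) y := by
    intro φ u y
    haveI : (V.subgroupOf (C.T ζ)).Normal := Subgroup.Normal.subgroupOf inferInstance _
    obtain ⟨η, hη⟩ := Chars17.exists_infl_eq (N := V.subgroupOf (C.T ζ)) (χ := φ.1)
      fun a ha => Chars17.mem_irrKer.2 (C.triv_of_over φ a ha)
    rw [← hη, Chars17.infl_apply, Chars17.infl_apply, QuotientGroup.mk_mul,
      (QuotientGroup.eq_one_iff _).2 (show (⟨u, hVT u.2⟩ : C.T ζ) ∈ V.subgroupOf _ from u.2), one_mul]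
  have hspec := (C.exists_tw ζ ψ).choose_spec.2.1 x
  have hspec' := (C.exists_tw ζ ψ').choose_spec.2.1 x
  have key : ∀ (u : V) (y : C.T ζ), ¬ p ∣ orderOf y → (x : G) = u * y →
      (ψ.1 : C.T ζ → ℂ) x = (ψ'.1 : C.T ζ → ℂ) x := by
    intro u y hy hx
    have hx' : x = ⟨u, hVT u.2⟩ * y := Subtype.ext hx
    rw [hx', hmul, hmul, ← C.tw_regular ζ ψ hy, e, C.tw_regular ζ ψ' hy]
  rcases hspec with ⟨-, h⟩ | ⟨u, y, hy, hx, -⟩
  · rcases hspec' with ⟨-, h'⟩ | ⟨u, y, hy, hx, -⟩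
    · rw [h, h']
    · exact key u y hy hx
  · exact key u y hy hx

theorem tw_surjective (ζ : V →* ℂˣ) {φ : IrrCharacter (C.T ζ)}
    (hφ : Over (Subgroup.inclusion (C.setting ζ).le) (C.th ζ) φ) : ∃ ψ, C.tw ζ ψ = φ := by
  classical
  by_contra hne
  push Not at hne
  have h1 : ∑ ψ : C.Sec ζ, ovMult (C.setting ζ) (C.tw ζ ψ) ^ 2 =
      (CV V).relIndex (C.T ζ) := by
    rw [← sum_ovMult_sq (C.setting₀ ζ),
      Finset.sum_congr rfl fun ψ _ => by rw [C.ovMult_tw]]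
    rw [← Finset.sum_subset (Finset.subset_univ (Finset.univ.filter fun ψ : IrrCharacter (C.T ζ) =>
      Over (Subgroup.inclusion (C.setting₀ ζ).le) C.θ ψ)) (fun ψ _ hψ => by
      rw [Finset.mem_filter, not_and] at hψ
      rw [show ovMult (C.setting₀ ζ) ψ = 0 from not_not.1 (hψ (Finset.mem_univ _))]
      rfl)]
    exact (Finset.sum_subtype _ (fun ψ => by simp) (fun ψ => ovMult (C.setting₀ ζ) ψ ^ 2)).symm
  rw [← sum_ovMult_sq (C.setting ζ),
    ← Finset.sum_image (f := fun φ => ovMult (C.setting ζ) φ ^ 2) (g := C.tw ζ)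
      (fun a _ b _ h => C.tw_injective ζ h)] at h1
  have hlt := Finset.sum_lt_sum_of_subset (Finset.subset_univ (Finset.univ.image (C.tw ζ)))
    (f := fun φ => ovMult (C.setting ζ) φ ^ 2) (Finset.mem_univ φ)
    (fun h => by
      obtain ⟨ψ, -, hψ⟩ := Finset.mem_image.1 h
      exact hne ψ hψ)
    (Nat.pow_pos (Nat.pos_of_ne_zero hφ)) fun _ _ _ => Nat.zero_le _
  omega

/-- The character of `B` from a twist. -/
def ind (ζ : V →* ℂˣ) (ψ : C.Sec ζ) : IrrCharacter G :=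
  ⟨indFun (C.T ζ) (C.tw ζ ψ : C.T ζ → ℂ),
    (CfsgLib.OddOrder.CliffordInd.indFun_of_inertia (inferInstance : (CV V).Normal) (C.th ζ).2
      (C.T ζ) rfl (C.cv_le ζ) (C.tw ζ ψ).2 ((over_iff _ _ _).1 (C.over_tw ζ ψ))).1⟩

theorem classInner_ind_ne_zero (ζ : V →* ℂˣ) (ψ : C.Sec ζ) :
    classInner (fun n : CV V => (C.ind ζ ψ : G → ℂ) n) (C.th ζ : CV V → ℂ) ≠ 0 := by
  set χ := C.ind ζ ψ with hχ
  have h1 : mult (C.T ζ).subtype χ (C.tw ζ ψ) = 1 := by
    refine mult_eq_of_classInner_eq _ _ _ ?_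
    rw [show (χ : G → ℂ) ∘ (C.T ζ).subtype = fun t : C.T ζ => (χ : G → ℂ) t from rfl,
      ← CfsgLib.Induction.classInner_indFun_right (C.T ζ) _ (irr_isClassFunction χ),
      show indFun (C.T ζ) (C.tw ζ ψ : C.T ζ → ℂ) = (χ : G → ℂ) from rfl,
      classInner_irr_self χ.2, Nat.cast_one]
  have h2 := CfsgLib.CharCorrQ.mult_mul_le_comp (C.T ζ).subtype
    (Subgroup.inclusion (C.setting ζ).le) χ (C.tw ζ ψ) (C.th ζ)
  rw [h1, one_mul] at h2
  have h3 := Nat.pos_of_ne_zero (C.over_tw ζ ψ)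
  rw [show (fun n : CV V => (χ : G → ℂ) n) =
    (χ : G → ℂ) ∘ (C.T ζ).subtype.comp (Subgroup.inclusion (C.setting ζ).le) from rfl, mult_spec,
    Nat.cast_ne_zero]
  exact Nat.pos_iff_ne_zero.1 (h3.trans_le h2)

theorem ind_mem (ζ : V →* ℂˣ) (ψ : C.Sec ζ) : C.ind ζ ψ ∈ B := by
  have hM := C.isModular
  have h1 := isInducedBlock_of_covers_centralizer hM V C.pgroup (CV V) le_rfl C.isBlockC
    (Blocks.isPBlock_blockOf (C.ind ζ ψ))
    ⟨_, Blocks.mem_blockOf_self hM _, _, C.th_mem ζ, C.classInner_ind_ne_zero ζ ψ⟩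
  have h2 := isInducedBlock_of_covers_centralizer hM V C.pgroup (CV V) le_rfl C.isBlockC
    C.isBlock C.covers
  exact (Set.ext_iff.1 (Blocks.IsInducedBlock.unique hM h2 h1) _).2 (Blocks.mem_blockOf_self hM _)

theorem exists_ind_eq {χ : IrrCharacter G} (hχ : χ ∈ B) : ∃ ζ ψ, C.ind ζ ψ = χ := by
  have hM := C.isModular
  obtain ⟨χ₀, hχ₀, θ₀, hθ₀, hcov⟩ := C.covers
  obtain ⟨θ', hθ', hne⟩ := covers_of_congr (CV V) hM C.isBlockC χ hθ₀ fun n =>
    congr_of_covers (CV V) hM C.isBlock C.isBlockC hχ₀ hθ₀ hcov hχ hθ₀ n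
  obtain ⟨ζ, rfl⟩ := C.exists_th_eq hθ'
  obtain ⟨φ, hφ, hind, hφθ⟩ := CfsgLib.Clifford.correspondence (inferInstance : (CV V).Normal)
    (C.th ζ).2 (C.T ζ) rfl (C.cv_le ζ) χ.2 hne
  obtain ⟨ψ, hψ⟩ := C.tw_surjective ζ (φ := ⟨φ, hφ⟩) ((over_iff _ _ _).2 (by
    show classInner (fun n : CV V => φ ⟨(n : G), C.cv_le ζ n.2⟩) _ ≠ 0
    rw [hφθ]; exact hne))
  exact ⟨ζ, ψ, Subtype.ext (by show indFun _ _ = _; rw [hψ]; exact hind)⟩

theorem ind_injective (ζ : V →* ℂˣ) : Function.Injective (C.ind ζ) := fun ψ ψ' e =>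
  C.tw_injective ζ (Subtype.ext ((CfsgLib.OddOrder.CliffordInd.indFun_of_inertia
    (inferInstance : (CV V).Normal) (C.th ζ).2 (C.T ζ) rfl (C.cv_le ζ) (C.tw ζ ψ).2
    ((over_iff _ _ _).1 (C.over_tw ζ ψ))).2 _ (C.tw ζ ψ').2
    ((over_iff _ _ _).1 (C.over_tw ζ ψ')) (congrArg Subtype.val e)))

theorem conj_of_ind_eq {ζ ζ' : V →* ℂˣ} {ψ : C.Sec ζ} {ψ' : C.Sec ζ'}
    (h : C.ind ζ ψ = C.ind ζ' ψ') :
    ∃ g ∈ C.T 1, ∀ u : V, ζ ⟨g * u * g⁻¹, conj_mem g u⟩ = ζ' u := by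
  obtain ⟨g, hg⟩ := CfsgLib.Clifford.exists_conj_of_constituent (inferInstance : (CV V).Normal)
    (C.ind ζ ψ).2 (C.th ζ).2 (C.th ζ').2 (C.classInner_ind_ne_zero ζ ψ)
    (by rw [h]; exact C.classInner_ind_ne_zero ζ' ψ')
  obtain ⟨hgT, hgu⟩ := (C.conj_th_iff g ζ ζ').1 fun n => (congrFun hg n).symm
  exact ⟨g, by rw [T, C.th_one]; exact hgT, hgu⟩

theorem ind_regular (ζ : V →* ℂˣ) (ψ : C.Sec ζ) {g : G} (hg : ¬ p ∣ orderOf g) :
    (C.ind ζ ψ : G → ℂ) g = indFun (C.T ζ) (ψ.1 : C.T ζ → ℂ) g := by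
  show indFun (C.T ζ) (C.tw ζ ψ : C.T ζ → ℂ) g = _
  rw [CfsgLib.Induction.indFun_apply, CfsgLib.Induction.indFun_apply]
  congr 1
  refine Finset.sum_congr rfl fun x _ => ?_
  by_cases hx : x⁻¹ * g * x ∈ C.T ζ
  · rw [CfsgLib.Induction.extendByZero_mem _ _ hx, CfsgLib.Induction.extendByZero_mem _ _ hx,
      C.tw_regular ζ ψ]
    rw [Subgroup.orderOf_mk]
    rwa [show x⁻¹ * g * x = MulAut.conj x⁻¹ g by simp, MulEquiv.orderOf_eq]
  · rw [CfsgLib.Induction.extendByZero_notMem _ _ hx, CfsgLib.Induction.extendByZero_notMem _ _ hx]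

theorem ind_one_apply (ψ : C.Sec 1) : (C.ind 1 ψ : G → ℂ) = indFun (C.T 1) (ψ.1 : C.T 1 → ℂ) := by
  have h : C.tw 1 ψ = ψ.1 := Subtype.ext (funext fun x => by
    rcases (C.exists_tw 1 ψ).choose_spec.2.1 x with ⟨h, h'⟩ | ⟨u, y, hy, hx, h⟩
    · exact h.trans h'.symm
    · have hVT : V ≤ C.T 1 := C.le.trans (C.cv_le 1)
      haveI : (V.subgroupOf (C.T 1)).Normal := Subgroup.Normal.subgroupOf inferInstance _
      obtain ⟨η, hη⟩ := Chars17.exists_infl_eq (N := V.subgroupOf (C.T 1)) (χ := ψ.1)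
        fun a ha => Chars17.mem_irrKer.2 (C.triv_of_over ψ a ha)
      refine h.trans ?_
      rw [MonoidHom.one_apply, Units.val_one, one_mul,
        show x = ⟨u, hVT u.2⟩ * y from Subtype.ext hx, ← hη, Chars17.infl_apply,
        Chars17.infl_apply, QuotientGroup.mk_mul, (QuotientGroup.eq_one_iff _).2
          (show (⟨u, hVT u.2⟩ : C.T 1) ∈ V.subgroupOf _ from u.2), one_mul])
  show indFun (C.T 1) (C.tw 1 ψ : C.T 1 → ℂ) = _
  rw [h]

/-- One character over `θ` makes the block of rank one. -/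
theorem blockRank_eq_one (h1 : Nat.card (C.Sec 1) = 1) : blockRank p B = 1 := by
  classical
  obtain ⟨hsub, ⟨ψ₀⟩⟩ := Nat.card_eq_one_iff_unique.1 h1
  set X := C.ind 1 ψ₀
  haveI := C.isModular.2.1
  refine le_antisymm ?_ (CfsgLib.CyclicDefectBound.one_le_blockRank C.isModular C.isBlock)
  rw [blockRank]
  refine le_trans (Submodule.finrank_mono (t := Submodule.span ℂ {pRegularPart p (X : G → ℂ)})
    (Submodule.span_le.2 ?_)) ((finrank_span_le_card _).trans (by simp))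
  rintro _ ⟨χ, hχ, rfl⟩
  obtain ⟨ζ, ψ, rfl⟩ := C.exists_ind_eq hχ
  set F := indFun (C.T ζ) (ψ.1 : C.T ζ → ℂ) with hF
  obtain ⟨a, ha⟩ : ∃ a : ℂ, F = a • (X : G → ℂ) := by
    refine ⟨classInner F (X : G → ℂ), ?_⟩
    refine (classFunction_eq_sum (CfsgLib.Induction.isClassFunction_indFun _ _ : IsClassFunction G F)).trans ?_
    refine Finset.sum_eq_single_of_mem X (Finset.mem_univ _) fun Z _ hZ => ?_
    rw [smul_eq_zero]
    left
    by_contra hne
    apply hZ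
    rw [CfsgLib.Induction.classInner_indFun _ _ (irr_isClassFunction Z), classInner_conj_symm,
      show (fun t : C.T ζ => (Z : G → ℂ) t) = (Z : G → ℂ) ∘ (C.T ζ).subtype from rfl, mult_spec,
      Complex.conj_natCast, Nat.cast_eq_zero] at hne
    have h2 := CfsgLib.CharCorrQ.mult_mul_le_comp (C.T ζ).subtype
      (Subgroup.inclusion (C.setting₀ ζ).le) Z ψ.1 C.θ
    have hZθ : classInner (fun n : CV V => (Z : G → ℂ) n) (C.th 1 : CV V → ℂ) ≠ 0 := by
      rw [C.th_one, show (fun n : CV V => (Z : G → ℂ) n) =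
        (Z : G → ℂ) ∘ (C.T ζ).subtype.comp (Subgroup.inclusion (C.setting₀ ζ).le) from rfl,
        mult_spec, Nat.cast_ne_zero]
      exact Nat.pos_iff_ne_zero.1 ((Nat.mul_pos (Nat.pos_of_ne_zero hne)
        (Nat.pos_of_ne_zero ψ.2)).trans_le h2)
    have hZB : Z ∈ B := by
      have hM := C.isModular
      have e1 := isInducedBlock_of_covers_centralizer hM V C.pgroup (CV V) le_rfl C.isBlockC
        (Blocks.isPBlock_blockOf Z) ⟨_, Blocks.mem_blockOf_self hM _, _, C.th_mem 1, hZθ⟩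
      exact (Set.ext_iff.1 (Blocks.IsInducedBlock.unique hM (isInducedBlock_of_covers_centralizer hM
        V C.pgroup (CV V) le_rfl C.isBlockC C.isBlock C.covers) e1) _).2
        (Blocks.mem_blockOf_self hM _)
    obtain ⟨φ, hφ, hind, hφθ⟩ := CfsgLib.Clifford.correspondence (inferInstance : (CV V).Normal)
      (C.th 1).2 (C.T 1) rfl (C.cv_le 1) Z.2 hZθ
    obtain ⟨ψ', hψ'⟩ := C.tw_surjective 1 (φ := ⟨φ, hφ⟩) ((over_iff _ _ _).2 (by
      show classInner (fun n : CV V => φ ⟨(n : G), C.cv_le 1 n.2⟩) _ ≠ 0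
      rw [hφθ]; exact hZθ))
    show Z = C.ind 1 ψ₀
    rw [Subsingleton.elim ψ₀ ψ']
    exact Subtype.ext (by show (Z : G → ℂ) = indFun _ _; rw [hψ']; exact hind.symm)
  refine Submodule.mem_span_singleton.2 ⟨a, funext fun g => ?_⟩
  simp only [Pi.smul_apply, pRegularPart]
  split_ifs with hg
  · rw [C.ind_regular ζ ψ hg, ← hF, ha]; rfl
  · simp

end Ctx

end CfsgLib.ThreeBlock9
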