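import Cfsg.Agent.Lib.ThreeBlock9.Core
import Cfsg.Agent.Lib.BlockCover.Quotient
import Cfsg.Agent.Lib.Blocks.InflateBlocks
import Cfsg.Agent.Lib.NormalEqual.Main
import Cfsg.Agent.Lib.PGroup.Frattini

/-!
# A noncyclic normal defect group gives four characters of height zero
-/

set_option autoImplicit false
set_option linter.unusedSectionVars false
set_option linter.style.haveILetI false

noncomputable section

namespace CfsgLib.ThreeBlock9

open Cfsg CfsgLib.BlockCover
open scoped commutatorElement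

universe u

variable {N : Type u} [Group N] [Fintype N] {p : ℕ} [hp : Fact p.Prime] {M : Ideal AlgInt}

theorem four_le_card_height_zero (hM : IsPModular p M) {b : Set (IrrCharacter N)}
    (hb : IsPBlock M b) {D : Subgroup N} [hDn : D.Normal] (hD : IsDefectGroup p M b D)
    (hcyc : ¬ IsCyclic D) :
    4 ≤ Nat.card {χ : IrrCharacter N // χ ∈ b ∧ blockHeight p b (χ : N → ℂ) = 0} := by
  classical
  haveI := hM.2.1
  have hDp := isPGroup_defect hM hD
  set Φ : Subgroup N := (frattini D).map D.subtype with hΦ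
  haveI : Φ.Normal := ConjAct.normal_of_characteristic_of_normal
  letI : Fintype (N ⧸ Φ) := Fintype.ofFinite _
  have hle : Φ ≤ D := Subgroup.map_subtype_le _
  have hΦp : IsPGroup p Φ := hDp.to_le hle
  set V : Subgroup (N ⧸ Φ) := D.map (QuotientGroup.mk' Φ) with hV
  haveI : V.Normal := hDn.map _ (QuotientGroup.mk'_surjective Φ)
  -- the block of the quotient
  obtain ⟨θ, hθ, htriv⟩ := Blocks.exists_mem_trivial_on Φ hM hΦp hb
  obtain ⟨η₀, hη₀⟩ := Chars17.exists_infl_eq (N := Φ) (χ := θ)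
    fun a ha => Chars17.mem_irrKer.2 (htriv a ha)
  set Bbar := blockOf M (η₀ : N ⧸ Φ → ℂ) with hBdef
  have hBbar : IsPBlock M Bbar := Blocks.isPBlock_blockOf η₀
  have hη₀B : η₀ ∈ Bbar := Blocks.mem_blockOf_self hM η₀
  have hsub : ∀ η ∈ Bbar, Chars17.infl Φ η ∈ b := fun η hη =>
    (Blocks.IsPBlock.mem_iff hM hb hθ _).2
      (hη₀ ▸ sameBlock_infl Φ hM ((Blocks.IsPBlock.mem_iff hM hBbar hη₀B _).1 hη))
  -- its defect group
  obtain ⟨Db, hDb₀⟩ := Blocks.exists_isDefectGroup hM hBbar
  have hVp : IsPGroup p V := hDp.map (QuotientGroup.mk' Φ)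
  have h1 : V ≤ Db := Blocks.normal_le_defect hM hBbar hVp hDb₀
  obtain ⟨P, hP, hPle⟩ := defect_le_map Φ hM hBbar hb hsub hDb₀
  obtain ⟨t, rfl⟩ := defectGroup_conjugate hM hb hD hP
  rw [BrauerPairs.map_conj_eq_self
    ((Subgroup.normalizer_eq_top (H := D)).symm ▸ Subgroup.mem_top t)] at hPle
  have hDb : IsDefectGroup p M Bbar V := le_antisymm h1 hPle ▸ hDb₀
  -- `V` is elementary abelian of rank at least two
  have hab : ∀ a ∈ V, ∀ c ∈ V, a * c = c * a := by
    rintro _ ⟨a, ha, rfl⟩ _ ⟨c, hc, rfl⟩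
    rw [← commutatorElement_eq_one_iff_mul_comm, ← map_commutatorElement]
    exact (QuotientGroup.eq_one_iff _).2 ⟨⁅(⟨a, ha⟩ : D), ⟨c, hc⟩⁆,
      CfsgLib.PGroup.commutator_le_frattini hDp
        (Subgroup.commutator_mem_commutator (Subgroup.mem_top _) (Subgroup.mem_top _)), rfl⟩
  have hexp : ∀ a ∈ V, a ^ p = 1 := by
    rintro _ ⟨a, ha, rfl⟩
    rw [← map_pow]
    exact (QuotientGroup.eq_one_iff _).2 ⟨_, CfsgLib.PGroup.pow_mem_frattini hDp ⟨a, ha⟩, rfl⟩
  obtain ⟨n, hn⟩ := hVp.exists_card_eq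
  have hn2 : 2 ≤ n := by
    by_contra hlt
    apply hcyc
    obtain ⟨⟨v, hv⟩, hgen⟩ : ∃ v : V, ∀ w : V, w ∈ Subgroup.zpowers v := by
      haveI : IsCyclic V := by
        rcases Nat.lt_or_ge n 1 with h | h
        · haveI : Subsingleton V := (Nat.card_eq_one_iff_unique.1 (by
            rw [hn, show n = 0 by omega, pow_zero])).1
          infer_instance
        · exact isCyclic_of_prime_card (p := p) (by rw [hn, show n = 1 by omega, pow_one])
      exact IsCyclic.exists_generator
    obtain ⟨a, ha, rfl⟩ := hv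
    refine isCyclic_iff_exists_zpowers_eq_top.2 ⟨⟨a, ha⟩, frattini_nongenerating (eq_top_iff.2 ?_)⟩
    rintro ⟨x, hx⟩ -
    obtain ⟨i, hi⟩ := Subgroup.mem_zpowers_iff.1 (hgen ⟨_, x, hx, rfl⟩)
    have hi' : QuotientGroup.mk' Φ (a ^ i) = QuotientGroup.mk' Φ x := by
      rw [map_zpow]; simpa using congrArg Subtype.val hi
    obtain ⟨y, hy, hxy⟩ := QuotientGroup.eq.1 hi'
    rw [show (⟨x, hx⟩ : D) = (⟨a, ha⟩ : D) ^ i * y from Subtype.ext (by
      show x = _
      rw [Subgroup.coe_mul, Subgroup.coe_zpow, show (y : N) = (a ^ i)⁻¹ * x from hxy,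
        mul_inv_cancel_left])]
    exact Subgroup.mul_mem _ (Subgroup.mem_sup_left (Subgroup.zpow_mem _ (Subgroup.mem_zpowers _) i))
      (Subgroup.mem_sup_right hy)
  have h4 := four_le_card_block hM hBbar hDb hab hexp hn hn2
  -- inflations have height zero
  have hh0 := (CentralDefect.comm_iff_height_zero hM hBbar hDb).1 hab
  obtain ⟨c, hc⟩ := hΦp.exists_card_eq
  have hcardD : Nat.card V * Nat.card Φ = Nat.card D := by
    have h := Subgroup.relIndex_map_map (QuotientGroup.mk' Φ) (⊥ : Subgroup N) D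
    rw [QuotientGroup.ker_mk', bot_sup_eq, Subgroup.map_bot, Subgroup.relIndex_bot_left,
      sup_eq_left.2 hle] at h
    rw [hV, h, ← Subgroup.relIndex_bot_left Φ, ← Subgroup.relIndex_bot_left D, mul_comm,
      Subgroup.relIndex_mul_relIndex _ _ _ bot_le hle]
  rw [natCard_defect hM hBbar hDb, natCard_defect hM hb hD, hc, ← pow_add] at hcardD
  have hdd := Nat.pow_right_injective hp.out.two_le hcardD
  have hG : (Nat.card N).factorization p = (Nat.card (N ⧸ Φ)).factorization p + c := by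
    rw [Φ.card_eq_card_quotient_mul_card_subgroup, hc,
      Nat.factorization_mul Nat.card_pos.ne' (pow_ne_zero _ hp.out.ne_zero), Finsupp.add_apply,
      hp.out.factorization_pow, Finsupp.single_eq_same]
  have hzero : ∀ η ∈ Bbar, blockHeight p b (Chars17.infl Φ η : N → ℂ) = 0 := by
    intro η hη
    have hdeg : charDegree (Chars17.infl Φ η : N → ℂ) = charDegree (η : N ⧸ Φ → ℂ) := by
      apply Nat.cast_injective (R := ℂ)
      rw [← CharCorr.irr_one_eq_charDegree, ← CharCorr.irr_one_eq_charDegree, Chars17.infl_apply,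
        QuotientGroup.mk_one]
    have e1 := Contribution.minExp_add_defect hM hb
    have e2 : Contribution.minExp p Bbar + blockDefect p Bbar =
        (Nat.card (N ⧸ Φ)).factorization p := Contribution.minExp_add_defect hM hBbar
    have hη0 := hh0 η hη
    simp only [blockHeight, Contribution.minExp] at hη0 e1 e2 ⊢
    rw [hdeg]
    omega
  refine h4.trans (Nat.card_le_card_of_injective
    (fun η : Bbar => (⟨Chars17.infl Φ η.1, hsub _ η.2, hzero _ η.2⟩ :
      {χ : IrrCharacter N // χ ∈ b ∧ blockHeight p b (χ : N → ℂ) = 0})) fun η η' e => ?_)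
  exact Subtype.ext (Chars17.infl_injective Φ (congrArg Subtype.val e))

end CfsgLib.ThreeBlock9
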