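import Cfsg.Agent.Lib.BlockCover.CentralizedDefect
import Cfsg.Agent.Lib.Chars17.IrrBasic

/-!
# Twisting by an invariant linear character of a normal `p`-subgroup

`ψ` is trivial on the normal `p`-subgroup `V` and of defect zero modulo it; `ζ` is a linear
character of `V` fixed by the group. Some irreducible character equals `ψ` on the regular elements,
`ζ` times `ψ` on their products with `V`, and vanishes elsewhere.
-/

set_option autoImplicit false
set_option linter.unusedSectionVars false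
set_option linter.style.haveILetI false

noncomputable section

namespace CfsgLib.ThreeBlock9

open Cfsg CfsgLib.Characters CfsgLib.CharCorr CfsgLib.CentralDefect
open scoped ComplexConjugate

universe u

variable {H : Type u} [Group H] [Fintype H] {p : ℕ} [hp : Fact p.Prime]

theorem exists_twist (V : Subgroup H) [hVn : V.Normal] (hV : IsPGroup p V) (ζ : V →* ℂˣ)
    (hinv : ∀ (h : H) (u : V) (hu : h * u * h⁻¹ ∈ V), ζ ⟨h * u * h⁻¹, hu⟩ = ζ u)
    (ψ : IrrCharacter H) (hψV : ∀ u ∈ V, (ψ : H → ℂ) u = (ψ : H → ℂ) 1) {b : ℕ} (hb : ¬ p ∣ b)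
    (hdeg : charDegree (ψ : H → ℂ) * b * Nat.card V = Nat.card H) :
    ∃ χ : IrrCharacter H,
      (∀ (u : V) (y : H), ¬ p ∣ orderOf y →
        (χ : H → ℂ) ((u : H) * y) = (ζ u : ℂ) * (ψ : H → ℂ) y) ∧
      (∀ x : H, (∀ u ∈ V, ∀ y : H, ¬ p ∣ orderOf y → x ≠ u * y) →
        (χ : H → ℂ) x = 0 ∧ (ψ : H → ℂ) x = 0) := by
  classical
  set N : Subgroup H := ζ.ker.map V.subtype with hN
  have hNV : N ≤ V := Subgroup.map_subtype_le _
  have hmemN : ∀ (u : V), (u : H) ∈ N ↔ ζ u = 1 := fun u => by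
    rw [hN, Subgroup.mem_map]
    exact ⟨fun ⟨v, hv, e⟩ => Subtype.ext e ▸ hv, fun h => ⟨u, h, rfl⟩⟩
  haveI : N.Normal := ⟨fun x hx h => by
    obtain ⟨v, hv, rfl⟩ := Subgroup.mem_map.1 hx
    exact (hmemN ⟨_, hVn.conj_mem v v.2 h⟩).2 ((hinv h v _).trans hv)⟩
  letI : Fintype (H ⧸ N) := Fintype.ofFinite _
  set π := QuotientGroup.mk' N with hπ
  set Vb : Subgroup (H ⧸ N) := V.map π with hVb
  letI : Fintype Vb := Fintype.ofFinite _
  haveI : Vb.Normal := hVn.map π (QuotientGroup.mk'_surjective N)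
  have hcen : ∀ (h : H) (v : V), π h * π v = π v * π h := fun h v => by
    rw [← map_mul, ← map_mul]
    refine QuotientGroup.eq.2 ?_
    have hm := hVn.conj_mem v v.2 h⁻¹
    rw [inv_inv] at hm
    have h1 : ζ (⟨h⁻¹ * v * h, hm⟩) = ζ v := by
      have h2 := hinv h⁻¹ v (by rwa [inv_inv])
      simpa only [inv_inv] using h2
    have h3 : (((v : V)⁻¹ * ⟨h⁻¹ * v * h, hm⟩ : V) : H) ∈ N :=
      (hmemN _).2 (by rw [map_mul, map_inv, h1, inv_mul_cancel])
    simpa [mul_assoc] using h3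
  have hcomm : ∀ y : H ⧸ N, ∀ u ∈ Vb, Commute u y := by
    rintro y _ ⟨v, hv, rfl⟩
    obtain ⟨h, rfl⟩ := QuotientGroup.mk'_surjective N y
    exact (hcen h ⟨v, hv⟩).symm
  have hsup : Vb ⊔ Subgroup.centralizer (Vb : Set (H ⧸ N)) = ⊤ :=
    eq_top_iff.2 fun y _ => Subgroup.mem_sup_right fun u hu => (hcomm y u hu).eq
  -- the characters below
  obtain ⟨η, hη⟩ := Chars17.exists_infl_eq (N := N) (χ := ψ)
    fun x hx => Chars17.mem_irrKer.2 (hψV x (hNV hx))
  have hval : ∀ x : H, (ψ : H → ℂ) x = (η : H ⧸ N → ℂ) (π x) := fun x => by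
    rw [← hη, Chars17.infl_apply]; rfl
  have hηV : ∀ u ∈ Vb, ∀ y, (η : H ⧸ N → ℂ) (u * y) = (η : H ⧸ N → ℂ) y := by
    rintro _ ⟨v, hv, rfl⟩ y
    obtain ⟨h, rfl⟩ := QuotientGroup.mk'_surjective N y
    rw [← map_mul, ← hval, ← hval]
    obtain ⟨η', hη'⟩ := Chars17.exists_infl_eq (N := V) (χ := ψ)
      fun x hx => Chars17.mem_irrKer.2 (hψV x hx)
    rw [← hη', Chars17.infl_apply, Chars17.infl_apply, QuotientGroup.mk_mul,
      (QuotientGroup.eq_one_iff v).2 hv, one_mul]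
  have hcardV : Nat.card Vb * Nat.card N = Nat.card V := by
    have h := Subgroup.relIndex_map_map π (⊥ : Subgroup H) V
    rw [hπ, QuotientGroup.ker_mk', bot_sup_eq, Subgroup.map_bot, Subgroup.relIndex_bot_left,
      sup_eq_left.2 hNV] at h
    rw [h, ← Subgroup.relIndex_bot_left N, ← Subgroup.relIndex_bot_left V, mul_comm,
      Subgroup.relIndex_mul_relIndex _ _ _ bot_le hNV]
  have hdegη : charDegree (η : H ⧸ N → ℂ) = charDegree (ψ : H → ℂ) := by
    simp [charDegree, hval]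
  have hS : Setup p Vb η b := by
    refine ⟨inferInstance, hV.map π, fun y _ u hu => hcomm y u hu, hb, ?_,
      fun u hu y _ => by rw [hηV u hu y]⟩
    rw [hdegη]
    refine mul_right_cancel₀ (b := Nat.card N) Nat.card_pos.ne' ?_
    rw [mul_assoc, hcardV, hdeg, ← Subgroup.card_eq_card_quotient_mul_card_subgroup]
  -- the linear character below
  let f : V →* Vb := π.subgroupMap V
  have hker : f.ker ≤ ζ.ker := fun v hv => by
    have h1 : π (v : H) = 1 := congrArg Subtype.val (MonoidHom.mem_ker.1 hv)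
    exact (hmemN v).1 ((QuotientGroup.eq_one_iff _).1 h1)
  let ζb : Vb →* ℂˣ := f.liftOfSurjective (π.subgroupMap_surjective V) ⟨ζ, hker⟩
  have hζb : ∀ v : V, ζb (f v) = ζ v :=
    f.liftOfRightInverse_comp_apply _ _ ⟨ζ, hker⟩
  let z : IrrCharacter Vb := ⟨_, isIrrCharacter_of_hom ζb⟩
  set χb := ext hS hsup z with hχb
  refine ⟨Chars17.infl N χb, fun u y hy => ?_, fun x hx => ?_⟩
  · have hyb : ¬ p ∣ orderOf (π y) := fun h => hy (h.trans (orderOf_map_dvd π y))
    rw [Chars17.infl_apply]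
    show pExt Vb p (z : Vb → ℂ) (η : H ⧸ N → ℂ) (π ((u : H) * y)) = _
    rw [map_mul, show π (u : H) = ((f u : Vb) : H ⧸ N) from rfl,
      pExt_mul hS.pgroup hS.comm _ _ (f u) hyb, ← hval]
    show (ζb (f u) : ℂ) * _ = _
    rw [hζb]
  · have hno : ¬ ∃ u : Vb, HasPart Vb p (π x) u := by
      rintro ⟨⟨_, v, hv, rfl⟩, hw⟩
      set w := v⁻¹ * x with hw'
      have hwb : ¬ p ∣ orderOf (π w) := by
        rw [hw', map_mul, map_inv]; exact hw
      obtain ⟨a, c, hac, hcom, ⟨k, hk⟩, hc⟩ := Blocks.exists_isPPart hp.out w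
      refine hx (v * a) (V.mul_mem hv (hNV ?_)) c hc (by rw [mul_assoc, hac, hw']; group)
      rw [← QuotientGroup.eq_one_iff, ← orderOf_eq_one_iff]
      show orderOf (π a) = 1
      have h1 : π a = π w * (π c)⁻¹ := by rw [← hac, map_mul, mul_inv_cancel_right]
      have h2 : Commute (π w) (π c)⁻¹ :=
        ((hac ▸ hcom.mul_left (Commute.refl c) : Commute w c).map π).inv_right
      have h3 : orderOf (π a) ∣ orderOf (π w) * orderOf (π c) := by
        rw [h1, ← orderOf_inv (π c)]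
        exact h2.orderOf_mul_dvd_mul_orderOf
      refine Nat.eq_one_of_dvd_coprimes ?_ (hk ▸ orderOf_map_dvd π a) h3
      exact Nat.Coprime.mul_right ((hp.out.coprime_iff_not_dvd.2 hwb).pow_left k)
        ((hp.out.coprime_iff_not_dvd.2 fun h => hc (h.trans (orderOf_map_dvd π c))).pow_left k)
    exact ⟨pExt_eq_zero _ _ hno, (hval x).trans ((regular_sum_and_vanish hS).2 _ hno)⟩

end CfsgLib.ThreeBlock9
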